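import Cfsg.Agent.H698.FinePR
import Cfsg.Agent.H189.FeitTits
import Cfsg.Agent.H912.CrossList_m3
import Cfsg.Agent.H315.FineOrth_m3
import Cfsg.Agent.S2119
import Cfsg.Agent.S2116
import Cfsg.Agent.H487.SchurMult
import Cfsg.Agent.H978.Alm.Affine_m3
import Cfsg.Agent.H175.BdSp_m3
import Cfsg.Agent.H412.ReeOut
import Cfsg.Agent.H762.FineTools
import Cfsg.Agent.H203.LSE6_mg_m3
import Cfsg.Agent.H203.LSTwF4
import Cfsg.Agent.H203.LSSz
import Cfsg.Agent.S2121
import Cfsg.Agent.S2126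
import Cfsg.Agent.S2127
import Cfsg.Agent.S2128
import Cfsg.Agent.S2129
import Cfsg.Agent.S1059
import Cfsg.Agent.S1067
import Cfsg.Agent.S1163
import Cfsg.Agent.S1068
import Cfsg.Agent.S1069
import Cfsg.Agent.H867.TitsOut
import Cfsg.Agent.H226.Setup
import Cfsg.Agent.H678.DG.Tits_m3
import Cfsg.Agent.H92.ExcTits
import Cfsg.Agent.H92.ExcG24
import Cfsg.Agent.H92.ExcThree
import Cfsg.Agent.H547.SelfCent.Tits
import Cfsg.Agent.H487.SchurPerfect
import Cfsg.Agent.S2115
import Cfsg.Agent.H845.LiftIrr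
import Cfsg.Agent.SmallSimple.PSLTwoPart
import Cfsg.Agent.H454.FinePsp
import Cfsg.Agent.S0243
import Cfsg.Agent.S0249
import Cfsg.Agent.S0265
import Cfsg.Agent.S0813
import Cfsg.Agent.S2086
import Mathlib
import Cfsg.Agent.H319.PslFour
import Cfsg.Agent.S0280
import Cfsg.Agent.S0283
import Cfsg.Agent.S0815
import Cfsg.Agent.S2089
import Cfsg.Agent.S0822
import Cfsg.Agent.H489.OutExc
import Cfsg.Agent.H656.LSTwE6
import Cfsg.Agent.H203.LSTor_m3
import Cfsg.Agent.H481.TBound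
import Cfsg.Prelude.Def_Classification2
import Cfsg.Agent.H315.FineOmega_mg
import Cfsg.Agent.S0254
import Cfsg.Agent.S0256
import Cfsg.Agent.Lib.FinFast
import Cfsg.Agent.FastGrp
import Cfsg.Agent.Prune
set_option linter.all false

section
prune_inst 0x7ff3bdfcdbb87ddeffff7e7ffef8dffc3b969fffefdff943ffe463ff8bdfa30a09e5fbad8de058fc0eb6c29410b87853fbfffeffeb6ffc7ffffdfff45ffbee5ff7ffbd0851d78d340f3c6fff93f07f8e7f3fffffffffffffffffffffffffffbeffffffffffff

-- part: H656/FineAlt_mg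
section
prune_inst 0xc42012000800000000000000000020000000000000008000000002000000000000000000000020000000800000000000000000000000000000000000000000000002120000000004000000000000000000000000000000000000000000000000000000000
set_option linter.all false
open scoped Cfsg.Agent.FastGrp

-- part: H656/FineAlt
section
/-!
# The alternating groups are `Fine`

`fine_alt` : the row of the alternating groups for S4881 (two orbits of coprime linear groups).
-/

set_option autoImplicit false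

namespace Cfsg.Agent.H656.FineAlt

open Cfsg.Agent.H698 Equiv

universe u w

/-! ### Counting classes -/

/-- Elements of a normal subgroup with different orders, and one class in each coset of an abelian quotient. -/
theorem classes_ge {X : Type*} [Group X] [Finite X] (N : Subgroup X) [N.Normal]
    (hcomm : ∀ a b : X ⧸ N, a * b = b * a) {k : ℕ} (x : Fin k → X) (hx : ∀ i, x i ∈ N)
    (ho : Function.Injective fun i => orderOf (x i)) : k + (N.index - 1) ≤ Nat.card (ConjClasses X) := by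
  classical
  let g : ConjClasses X → X ⧸ N := Quotient.lift (QuotientGroup.mk' N) (by
    intro a b hab
    obtain ⟨c, hc⟩ := isConj_iff.1 hab
    rw [← hc, map_mul, map_mul, hcomm, ← mul_assoc, ← map_mul, inv_mul_cancel, map_one, one_mul])
  have hg : ∀ a, g (ConjClasses.mk a) = QuotientGroup.mk' N a := fun a => rfl
  have hgx : ∀ i, g (ConjClasses.mk (x i)) = 1 := fun i => by
    rw [hg, QuotientGroup.mk'_apply, QuotientGroup.eq_one_iff]
    exact hx i
  let f : Fin k ⊕ {q : X ⧸ N // q ≠ 1} → ConjClasses X :=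
    Sum.elim (fun i => ConjClasses.mk (x i)) (fun q => ConjClasses.mk q.1.out)
  have hgq : ∀ q : X ⧸ N, g (ConjClasses.mk q.out) = q := fun q => by
    rw [hg, QuotientGroup.mk'_apply]
    exact Quotient.out_eq' q
  have hf : Function.Injective f := by
    rintro (i | q) (j | q') h
    · have h1 : IsConj (x i) (x j) := ConjClasses.mk_eq_mk_iff_isConj.1 h
      obtain ⟨c, hc⟩ := isConj_iff.1 h1
      have h2 : orderOf (x i) = orderOf (x j) := by
        rw [← hc, ← MulAut.conj_apply]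
        exact (MulEquiv.orderOf_eq (MulAut.conj c) (x i)).symm
      exact congrArg Sum.inl (ho h2)
    · exfalso
      have h1 : ConjClasses.mk (x i) = ConjClasses.mk q'.1.out := h
      have h2 := hgx i
      rw [h1, hgq] at h2
      exact q'.2 h2
    · exfalso
      have h1 : ConjClasses.mk q.1.out = ConjClasses.mk (x j) := h
      have h2 := hgx j
      rw [← h1, hgq] at h2
      exact q.2 h2
    · have h1 : ConjClasses.mk q.1.out = ConjClasses.mk q'.1.out := h
      have h2 := congrArg g h1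
      rw [hgq, hgq] at h2
      exact congrArg Sum.inr (Subtype.ext h2)
  have h1 := Nat.card_le_card_of_injective f hf
  rw [Nat.card_sum, Nat.card_eq_fintype_card (α := Fin k), Fintype.card_fin] at h1
  have h2 : Nat.card {q : X ⧸ N // q ≠ 1} = N.index - 1 := by
    have : Fintype (X ⧸ N) := Fintype.ofFinite _
    rw [Nat.card_eq_fintype_card, Fintype.card_subtype_compl, Fintype.card_subtype_eq,
      Subgroup.index, Nat.card_eq_fintype_card]
  omega

/-! ### The general case -/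

theorem card_alt {n : ℕ} (hn : 2 ≤ n) : 2 * Nat.card (alternatingGroup (Fin n)) = n.factorial := by
  have : Nontrivial (Fin n) := Fin.nontrivial_iff_two_le.2 hn
  rw [two_mul_nat_card_alternatingGroup, Nat.card_perm, Nat.card_eq_fintype_card, Fintype.card_fin]

theorem card_aut {n : ℕ} (hn : 4 ≤ n) (h6 : n ≠ 6) :
    Nat.card (MulAut ↥(alternatingGroup (Fin n))) = n.factorial := by
  rw [← Nat.card_congr (Equiv.ofBijective _ (S2119.result n hn h6)), Nat.card_perm, Nat.card_eq_fintype_card,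
    Fintype.card_fin]

theorem lt_of_not_dvd {n p : ℕ} (hn : 2 ≤ n) (hp : p.Prime) (h11 : 11 ≤ p)
    (hpT : ¬ p ∣ Nat.card (alternatingGroup (Fin n))) : n < p := by
  by_contra h
  have h1 : p ∣ n.factorial := Nat.dvd_factorial hp.pos (by omega)
  rw [← card_alt hn] at h1
  rcases hp.dvd_mul.1 h1 with h2 | h2
  · have := Nat.le_of_dvd (by norm_num) h2
    omega
  · exact hpT h2

theorem center_alt {n : ℕ} (hn : 5 ≤ n) : Subgroup.center (alternatingGroup (Fin n)) = ⊥ :=
  alternatingGroup.center_eq_bot (by rw [Nat.card_eq_fintype_card, Fintype.card_fin]; omega)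

theorem fact_le {p : ℕ} : ∀ j : ℕ, 3 + j ≤ p → (3 + j).factorial ≤ 6 * p ^ j
  | 0, _ => by simp [Nat.factorial]
  | j + 1, h => by
    have h1 := fact_le (p := p) j (by omega)
    calc (3 + (j + 1)).factorial = (3 + j + 1) * (3 + j).factorial := Nat.factorial_succ (3 + j)
      _ ≤ p * (6 * p ^ j) := Nat.mul_le_mul (by omega) h1
      _ = 6 * p ^ (j + 1) := by ring

theorem rep_ge {n p m : ℕ} (hn : 9 ≤ n) (hnp : n < p)
    (h : _root_.Cfsg.Agent.H698.Rep.{0, w} p m (alternatingGroup (Fin n))) : n - 1 ≤ m := by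
  obtain ⟨F, _, _, _, P, _, _, π, ρ, h1, h2, h3, h4, h5⟩ := h
  let ρ' : P →* Module.End F (Fin m → F) :=
    ((Matrix.toLinAlgEquiv' : Matrix (Fin m) (Fin m) F ≃ₐ[F] _).toAlgHom.toRingHom.toMonoidHom).comp
      ((Units.coeHom _).comp ρ)
  have h6 := Cfsg.Agent.H189.FeitTits.feit_tits p hn π h1 ρ' (by
    intro g hg
    have h7 : ρ g = ρ 1 := by
      apply Units.ext
      have h8 : (Matrix.toLinAlgEquiv' : Matrix (Fin m) (Fin m) F ≃ₐ[F] _) (ρ g : Matrix (Fin m) (Fin m) F) = 1 := hg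
      rw [map_one, Units.val_one]
      exact Matrix.toLinAlgEquiv'.injective (by rw [h8, map_one])
    rw [h4 h7, map_one])
  rw [if_neg (fun h => by have := Nat.le_of_dvd (by omega) h; omega), Module.finrank_fintype_fun_eq_card,
    Fintype.card_fin] at h6
  omega

theorem fine_big {n : ℕ} (hn : 9 ≤ n) : Fine.{0, w} (alternatingGroup (Fin n)) := by
  refine Fine.of_lt (center_alt (by omega)) ?_ fun p m hp h11 hpT hm hR => ?_
  · have h1 := card_alt (n := n) (by omega)
    have h2 : Nat.factorial 9 ≤ n.factorial := Nat.factorial_le hn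
    have h3 : Nat.factorial 9 = 362880 := by decide
    omega
  · have hnp := lt_of_not_dvd (by omega) hp h11 hpT
    have h1 := rep_ge hn hnp hR
    rw [card_aut (by omega) (by omega)]
    obtain ⟨j, rfl⟩ : ∃ j, n = 3 + j := ⟨n - 3, by omega⟩
    have h2 := fact_le (p := p) j (by omega)
    have h0 : j + 2 ≤ m := by omega
    have h3 : p ^ (j + 2) ≤ p ^ m := Nat.pow_le_pow_right (by omega) h0
    have h4 : 6 * p ^ j ≤ p * p ^ j := Nat.mul_le_mul_right _ (by omega)
    have h5 : (p - 3) * (3 + j).factorial ≤ (p - 3) * (p * p ^ j) := Nat.mul_le_mul_left _ (h2.trans h4)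
    have h6 : (p - 3) * (p * p ^ j) + 3 * (p * p ^ j) = p ^ (j + 2) := by
      rw [← add_mul, show p - 3 + 3 = p from by omega]; ring
    have h7 : 0 < p * p ^ j := Nat.mul_pos (by omega) (Nat.pow_pos (by omega))
    omega

/-! ### Degrees 5 and 7 -/

theorem fine_five : Fine.{0, w} (alternatingGroup (Fin 5)) := by
  have hc := card_alt (n := 5) (by norm_num)
  have hf : Nat.factorial 5 = 120 := by decide
  refine Fine.of_lt5 (center_alt le_rfl) (by omega) fun p m hp h11 hpT hm hR => ?_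
  rw [card_aut (by norm_num) (by norm_num), hf]
  have h1 : p ^ 3 ≤ p ^ m := Nat.pow_le_pow_right (by omega) hm
  have h2 : 11 * 11 * p ≤ p ^ 3 := by
    rw [pow_succ, pow_two]
    exact Nat.mul_le_mul_right _ (Nat.mul_le_mul h11 h11)
  omega

theorem rep_seven {p m : ℕ} (hp : p.Prime) (hpT : ¬ p ∣ Nat.card (alternatingGroup (Fin 7)))
    (h : _root_.Cfsg.Agent.H698.Rep.{0, w} p m (alternatingGroup (Fin 7))) : 4 ≤ m := by
  have hc := card_alt (n := 7) (by norm_num)
  have hf : Nat.factorial 7 = 5040 := by decide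
  have h5 : Nat.Prime 5 := by norm_num
  have e : alternatingGroup (Fin 7) ≃* ULift.{w} (alternatingGroup (Fin 7)) := MulEquiv.ulift.symm
  have h' : _root_.Cfsg.Agent.H698.Rep.{w, w} p m (ULift.{w} (alternatingGroup (Fin 7))) := h.congr e
  have hM := Cfsg.Agent.H487.HasSchurMultiplier.congr_left (S2116.result 7 (Or.inr rfl)) e
  refine Rep.le_of_Bd (r := 5) hp h5 ?_ (by rwa [← Nat.card_congr e.toEquiv]) h' hM ?_ ?_
  · rw [← Nat.card_congr e.toEquiv]
    have : Nat.card (alternatingGroup (Fin 7)) = 2520 := by omega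
    rw [this]; norm_num
  · rw [Nat.card_eq_fintype_card, Fintype.card_multiplicative, ZMod.card]
    norm_num
  · intro F _ hF
    exact (Cfsg.Agent.H912.Bd.bd_alt_prime h5 hF (by norm_num)).congr e.symm

theorem fine_seven : Fine.{0, w} (alternatingGroup (Fin 7)) := by
  have hc := card_alt (n := 7) (by norm_num)
  have hf : Nat.factorial 7 = 5040 := by decide
  refine Fine.of_lt5 (center_alt (by norm_num)) (by omega) fun p m hp h11 hpT hm hR => ?_
  rw [card_aut (by norm_num) (by norm_num), hf]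
  have h0 := rep_seven hp hpT hR
  have h1 : p ^ 4 ≤ p ^ m := Nat.pow_le_pow_right (by omega) h0
  obtain ⟨j, rfl⟩ : ∃ j, p = 9 + j := ⟨p - 9, by omega⟩
  have h2 : (9 + j) ^ 4 = j ^ 4 + 36 * j ^ 3 + 486 * j ^ 2 + 2916 * j + 6561 := by ring
  have h3 : 9 + j - 9 = j := by omega
  rw [h3]
  have h4 : 4 * j ≤ j ^ 2 + 4 := by linarith only [sq_nonneg ((j : ℤ) - 2)]
  have h5 : 3 * j ^ 2 ≤ j ^ 3 + 4 * j := by
    have := Nat.zero_le (j ^ 3)
    nlinarith only [sq_nonneg ((j : ℤ) - 2)]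
  nlinarith only [h1, h5]

/-! ### Degree 8 -/

/-- the numbers of fixed points of the first four powers -/
def fixNum (n : ℕ) (σ : Perm (Fin n)) (k : ℕ) : ℕ := (Finset.univ.filter fun i => (σ ^ k) i = i).card

theorem fixNum_conj {n : ℕ} (σ τ : Perm (Fin n)) (k : ℕ) : fixNum n (τ * σ * τ⁻¹) k = fixNum n σ k := by
  unfold fixNum
  refine Finset.card_bij (fun i _ => τ⁻¹ i) ?_ ?_ ?_
  · intro i hi
    rw [Finset.mem_filter] at hi ⊢
    refine ⟨Finset.mem_univ _, ?_⟩
    have h1 := hi.2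
    rw [conj_pow] at h1
    rw [Perm.eq_inv_iff_eq]
    simpa only [Perm.mul_apply, _root_.Equiv.Perm.coe_inv] using h1
  · intro i _ j _ h
    exact τ⁻¹.injective h
  · intro i hi
    rw [Finset.mem_filter] at hi
    refine ⟨τ i, ?_, by simp⟩
    rw [Finset.mem_filter]
    refine ⟨Finset.mem_univ _, ?_⟩
    rw [conj_pow]
    simp only [Perm.mul_apply, hi.2, _root_.Equiv.Perm.coe_inv, _root_.Equiv.symm_apply_apply]

/-- A lower bound for the number of classes of an almost simple group with alternating socle. -/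
theorem classes_alt {n k : ℕ} (hn : 4 ≤ n) (h6 : n ≠ 6) (a : Fin k → alternatingGroup (Fin n))
    (ha : ∀ i j, i ≠ j → ∃ t, fixNum n (a i) t ≠ fixNum n (a j) t)
    (X : Subgroup (MulAut (alternatingGroup (Fin n))))
    (hX : (MulAut.conj : alternatingGroup (Fin n) →* MulAut (alternatingGroup (Fin n))).range ≤ X) :
    k ≤ Nat.card (ConjClasses X) := by
  let f : Fin k → ConjClasses X := fun i => ConjClasses.mk ⟨MulAut.conj (a i), hX ⟨a i, rfl⟩⟩
  have hf : Function.Injective f := by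
    intro i j h
    by_contra hij
    obtain ⟨t, ht⟩ := ha i j hij
    apply ht
    obtain ⟨c, hc⟩ := isConj_iff.1 (ConjClasses.mk_eq_mk_iff_isConj.1 h)
    obtain ⟨τ, hτ⟩ := (S2119.result n hn h6).2 (c : MulAut (alternatingGroup (Fin n)))
    have h1 : (c : MulAut (alternatingGroup (Fin n))) * MulAut.conj (a i) * (c : MulAut (alternatingGroup (Fin n)))⁻¹ =
        MulAut.conj (a j) := congrArg Subtype.val hc
    have h2 : MulAut.conj ((c : MulAut (alternatingGroup (Fin n))) (a i)) = MulAut.conj (a j) := by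
      rw [← h1]
      ext x
      simp only [MulAut.conj_apply, _root_.Subgroup.coe_mul, _root_.InvMemClass.coe_inv, _root_.Equiv.Perm.coe_mul, _root_.Equiv.Perm.coe_inv, _root_.Function.comp_apply, _root_.MulAut.mul_apply, _root_.MulAut.inv_apply, _root_.map_mul, _root_.MulEquiv.apply_symm_apply, _root_.map_inv]
    have h3 : (c : MulAut (alternatingGroup (Fin n))) (a i) = a j := by
      have h4 : ((c : MulAut (alternatingGroup (Fin n))) (a i)) * (a j)⁻¹ ∈ Subgroup.center (alternatingGroup (Fin n)) := by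
        rw [Subgroup.mem_center_iff]
        intro x
        have h5 : ((c : MulAut (alternatingGroup (Fin n))) (a i)) * ((a j)⁻¹ * x * a j) *
            ((c : MulAut (alternatingGroup (Fin n))) (a i))⁻¹ = x := by
          have := DFunLike.congr_fun h2 ((a j)⁻¹ * x * a j)
          rw [MulAut.conj_apply, MulAut.conj_apply] at this
          rw [this]; group
        calc x * (((c : MulAut (alternatingGroup (Fin n))) (a i)) * (a j)⁻¹)
            = (((c : MulAut (alternatingGroup (Fin n))) (a i)) * ((a j)⁻¹ * x * a j) *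
              ((c : MulAut (alternatingGroup (Fin n))) (a i))⁻¹) * (((c : MulAut (alternatingGroup (Fin n))) (a i)) * (a j)⁻¹) := by
              rw [h5]
          _ = _ := by group
      rw [alternatingGroup.center_eq_bot (by rw [Nat.card_eq_fintype_card, Fintype.card_fin]; omega),
        Subgroup.mem_bot, mul_inv_eq_one] at h4
      exact h4
    rw [← h3, ← hτ, MulAut.conjNormal_apply, fixNum_conj]
  have h1 := Nat.card_le_card_of_injective f hf
  rwa [Nat.card_eq_fintype_card, Fintype.card_fin] at h1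

/-- a product of two transpositions -/
def tt {n : ℕ} (a b c d : Fin n) (h : a ≠ b ∧ c ≠ d) : alternatingGroup (Fin n) :=
  ⟨swap a b * swap c d, by rw [Perm.mem_alternatingGroup, Perm.sign_mul, Perm.sign_swap h.1, Perm.sign_swap h.2]; rfl⟩

/-- representatives -/
def reps8 : Fin 9 → alternatingGroup (Fin 8) :=
  ![1, tt 0 1 2 3 (by decide), tt 0 1 2 3 (by decide) * tt 4 5 6 7 (by decide), tt 0 1 1 2 (by decide),
    tt 0 1 1 2 (by decide) * tt 3 4 4 5 (by decide), tt 0 1 1 2 (by decide) * tt 2 3 4 5 (by decide),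
    tt 0 1 1 2 (by decide) * tt 2 3 4 5 (by decide) * tt 5 6 6 7 (by decide),
    tt 0 1 1 2 (by decide) * tt 2 3 3 4 (by decide),
    tt 0 1 1 2 (by decide) * tt 2 3 3 4 (by decide) * tt 4 5 5 6 (by decide)]

theorem reps8_ne : ∀ i j : Fin 9, i ≠ j → fixNum 8 (reps8 i) 1 ≠ fixNum 8 (reps8 j) 1 ∨
    fixNum 8 (reps8 i) 2 ≠ fixNum 8 (reps8 j) 2 := by decide +kernel

/-- the embedding of `A₇` in `A₈` -/
theorem exists_hom : ∃ f : alternatingGroup (Fin 7) →* alternatingGroup (Fin 8), Function.Injective f := by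
  classical
  let e : Fin 7 ≃ {x : Fin 8 // x ∈ Set.range (Fin.castSucc : Fin 7 → Fin 8)} :=
    Equiv.ofInjective Fin.castSucc (Fin.castSucc_injective 7)
  let g : Perm (Fin 7) →* Perm (Fin 8) := Perm.extendDomainHom e
  have hg : Function.Injective g := Perm.extendDomainHom_injective e
  refine ⟨(g.comp (alternatingGroup (Fin 7)).subtype).codRestrict (alternatingGroup (Fin 8)) (fun x => ?_), ?_⟩
  · rw [Perm.mem_alternatingGroup]
    have h1 : Perm.sign (Perm.extendDomain (x : Perm (Fin 7)) e) = Perm.sign (x : Perm (Fin 7)) :=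
      Perm.sign_extendDomain _ _
    have h2 : Perm.sign (x : Perm (Fin 7)) = 1 := Perm.mem_alternatingGroup.1 x.2
    exact h1.trans h2
  · intro x y hxy
    apply Subtype.ext
    apply hg
    exact congrArg Subtype.val hxy

theorem rep_eight {p m : ℕ} (hp : p.Prime) (hpT : ¬ p ∣ Nat.card (alternatingGroup (Fin 8)))
    (h : _root_.Cfsg.Agent.H698.Rep.{0, w} p m (alternatingGroup (Fin 8))) : 4 ≤ m := by
  have hc7 := card_alt (n := 7) (by norm_num)
  obtain ⟨f, hf⟩ := exists_hom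
  have hs : IsSimpleGroup (alternatingGroup (Fin 7)) :=
    alternatingGroup.isSimpleGroup (by rw [Nat.card_eq_fintype_card, Fintype.card_fin]; norm_num)
  have e8 : alternatingGroup (Fin 8) ≃* ULift.{w} (alternatingGroup (Fin 8)) := MulEquiv.ulift.symm
  have e7 : alternatingGroup (Fin 7) ≃* ULift.{w} (alternatingGroup (Fin 7)) := MulEquiv.ulift.symm
  have hs' : IsSimpleGroup (ULift.{w} (alternatingGroup (Fin 7))) := e7.symm.isSimpleGroup
  have h' : _root_.Cfsg.Agent.H698.Rep.{w, w} p m (ULift.{w} (alternatingGroup (Fin 8))) := h.congr e8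
  have h1 := h'.sub (S := ULift.{w} (alternatingGroup (Fin 7))) (by
    intro hcomm
    have h2 : Subgroup.center (alternatingGroup (Fin 7)) = ⊤ := by
      rw [eq_top_iff]
      intro a _
      rw [Subgroup.mem_center_iff]
      intro b
      apply e7.injective
      rw [map_mul, map_mul]
      exact hcomm.is_comm.comm _ _
    rw [center_alt (by norm_num)] at h2
    exact bot_ne_top h2) ((e8.toMonoidHom.comp f).comp e7.symm.toMonoidHom)
    (e8.injective.comp (hf.comp e7.symm.injective))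
  refine rep_seven hp ?_ (h1.congr e7.symm)
  intro hd
  exact hpT (hd.trans (Subgroup.card_dvd_of_injective f hf))

theorem fine_eight : Fine.{0, w} (alternatingGroup (Fin 8)) := by
  have hf : Nat.factorial 8 = 40320 := by decide
  refine Fine.of_classes (k := 9) (fun X hX => classes_alt (by norm_num) (by norm_num) reps8 (fun i j hij => ?_) X hX)
    fun p m hp h11 hpT hm hR => ?_
  · rcases reps8_ne i j hij with h | h
    exacts [⟨1, h⟩, ⟨2, h⟩]
  rw [card_aut (by norm_num) (by norm_num), hf]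
  have h0 := rep_eight hp hpT hR
  have h1 : p ^ 4 ≤ p ^ m := Nat.pow_le_pow_right (by omega) h0
  refine lt_of_lt_of_le ?_ h1
  rcases Nat.lt_or_ge p 37 with h2 | h2
  · interval_cases p <;> (clear * -; omega)
  · have h3 : 37 * 37 * 37 * p ≤ p ^ 4 := by
      rw [pow_succ, pow_succ, pow_succ, pow_one]
      exact Nat.mul_le_mul_right _ (Nat.mul_le_mul (Nat.mul_le_mul h2 h2) h2)
    omega

/-! ### Degree 6 -/

/-- representatives -/
def reps6 : Fin 5 → alternatingGroup (Fin 6) :=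
  ![1, tt 0 1 2 3 (by decide), tt 0 1 1 2 (by decide), tt 0 1 1 2 (by decide) * tt 2 3 4 5 (by decide),
    tt 0 1 1 2 (by decide) * tt 2 3 3 4 (by decide)]

theorem orderOf_reps6 : ∀ i : Fin 5, orderOf (reps6 i) = i + 1 := by
  have h1 : reps6 1 ^ 2 = 1 ∧ reps6 1 ≠ 1 := by decide +kernel
  have h2 : reps6 2 ^ 3 = 1 ∧ reps6 2 ≠ 1 := by decide +kernel
  have h3 : reps6 3 ^ 4 = 1 ∧ reps6 3 ^ 2 ≠ 1 := by decide +kernel
  have h4 : reps6 4 ^ 5 = 1 ∧ reps6 4 ≠ 1 := by decide +kernel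
  intro i
  fin_cases i
  · exact orderOf_one
  · have : Fact (Nat.Prime 2) := ⟨Nat.prime_two⟩
    exact orderOf_eq_prime h1.1 h1.2
  · have : Fact (Nat.Prime 3) := ⟨Nat.prime_three⟩
    exact orderOf_eq_prime h2.1 h2.2
  · have : Fact (Nat.Prime 2) := ⟨Nat.prime_two⟩
    exact orderOf_eq_prime_pow (p := 2) (n := 1) (by rw [pow_one]; exact h3.2) h3.1
  · have : Fact (Nat.Prime 5) := ⟨by norm_num⟩
    exact orderOf_eq_prime h4.1 h4.2

/-- groups of order at most four are commutative -/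
theorem comm_of_card {Q : Type*} [Group Q] [Finite Q] (h : Nat.card Q ≤ 4) : ∀ a b : Q, a * b = b * a := by
  have h0 : 0 < Nat.card Q := Nat.card_pos
  have key : ∀ r : ℕ, r.Prime → Nat.card Q = r → ∀ a b : Q, a * b = b * a := by
    intro r hr h1 a b
    have : Fact r.Prime := ⟨hr⟩
    have : IsCyclic Q := isCyclic_of_prime_card h1
    exact (IsCyclic.commGroup (α := Q)).mul_comm a b
  interval_cases h1 : Nat.card Q
  · intro a b
    have : Subsingleton Q := (Nat.card_eq_one_iff_unique.1 h1).1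
    exact Subsingleton.elim _ _
  · exact key 2 Nat.prime_two rfl
  · exact key 3 Nat.prime_three rfl
  · have : Fact (Nat.Prime 2) := ⟨Nat.prime_two⟩
    exact fun a b => (IsPGroup.commGroupOfCardEqPrimeSq (p := 2) (G := Q) (by rw [h1]; rfl)).mul_comm a b

theorem fine_six : Fine.{0, w} (alternatingGroup (Fin 6)) := by
  intro p m hp h11 hpT hm hR X hX z hz
  have hc := card_alt (n := 6) (by norm_num)
  have hf : Nat.factorial 6 = 720 := by decide
  have hinj : Function.Injective (MulAut.conj : alternatingGroup (Fin 6) →* MulAut (alternatingGroup (Fin 6))) := by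
    rw [injective_iff_map_eq_one]
    intro a ha
    have h1 : a ∈ Subgroup.center (alternatingGroup (Fin 6)) := by
      rw [Subgroup.mem_center_iff]
      intro x
      have h2 : a * x * a⁻¹ = x := DFunLike.congr_fun ha x
      calc x * a = (a * x * a⁻¹) * a := by rw [h2]
        _ = a * x := by group
    rwa [center_alt (by norm_num), Subgroup.mem_bot] at h1
  let N : Subgroup X := (MulAut.conj : alternatingGroup (Fin 6) →* MulAut (alternatingGroup (Fin 6))).range.subgroupOf X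
  have hNn : N.Normal := by
    refine ⟨fun x hx g => ?_⟩
    rw [Subgroup.mem_subgroupOf] at hx ⊢
    obtain ⟨t, ht⟩ := hx
    refine ⟨(g : MulAut (alternatingGroup (Fin 6))) t, ?_⟩
    rw [Subgroup.coe_mul, Subgroup.coe_mul, ← ht]
    ext x
    simp only [MulAut.conj_apply, _root_.Subgroup.coe_mul, _root_.InvMemClass.coe_inv, _root_.Equiv.Perm.coe_mul, _root_.Equiv.Perm.coe_inv, _root_.Function.comp_apply, _root_.MulAut.mul_apply, _root_.MulAut.inv_apply, _root_.map_mul, _root_.MulEquiv.apply_symm_apply, _root_.map_inv]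
  have hN : Nat.card N = 360 := by
    have h1 : Nat.card N = Nat.card (MulAut.conj : alternatingGroup (Fin 6) →* MulAut (alternatingGroup (Fin 6))).range :=
      Nat.card_congr (Subgroup.subgroupOfEquivOfLe hX).toEquiv
    rw [h1, ← Nat.card_congr (MonoidHom.ofInjective hinj).toEquiv]
    omega
  have hcard : 360 * N.index = Nat.card X := by rw [← hN]; exact Subgroup.card_mul_index N
  have hle : Nat.card X ≤ 1440 := (Subgroup.card_le_card_group X).trans H202.TwoTransAlt.card_mulAut_A6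
  have hi4 : N.index ≤ 4 := by omega
  have hi1 : 1 ≤ N.index := Nat.one_le_iff_ne_zero.2 Subgroup.FiniteIndex.index_ne_zero
  have hk := classes_ge N (comm_of_card hi4) (k := 5) (fun i => ⟨MulAut.conj (reps6 i), hX ⟨_, rfl⟩⟩)
    (fun i => by rw [Subgroup.mem_subgroupOf]; exact ⟨_, rfl⟩) (by
      intro i j h
      have h' : orderOf (⟨MulAut.conj (reps6 i), hX ⟨_, rfl⟩⟩ : X) = orderOf (⟨MulAut.conj (reps6 j), hX ⟨_, rfl⟩⟩ : X) := h
      rw [Subgroup.orderOf_mk, Subgroup.orderOf_mk, orderOf_injective _ hinj, orderOf_injective _ hinj, orderOf_reps6,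
        orderOf_reps6] at h'
      exact Fin.ext (by omega))
  generalize Nat.card (ConjClasses X) = c at hk ⊢
  by_contra hlt
  have hodd : p % 2 = 1 := by
    rcases hp.eq_two_or_odd with h3 | h3
    · omega
    · exact h3
  obtain ⟨s, rfl⟩ : ∃ s, p = 2 * s + 1 := ⟨p / 2, by omega⟩
  have hz1 : z + (4 + N.index) ≤ s + 1 := by (clear * - hk hlt; omega)
  rw [← hcard] at hz
  have h3 : (2 * s + 1) ^ 3 ≤ (2 * s + 1) ^ m := Nat.pow_le_pow_right (by omega) hm
  have h4 : (2 * s + 1) ^ 3 ≤ 720 * (N.index * z) + 1 := by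
    calc (2 * s + 1) ^ 3 ≤ _ := h3.trans hz
      _ = 720 * (N.index * z) + 1 := by ring
  generalize hd : N.index = d at *
  obtain ⟨v, rfl⟩ : ∃ v, s = v + z + 3 + d := ⟨s + 1 - (z + (4 + d)), by (clear * - hz1; omega)⟩
  have h5 : (2 * (z + 3 + d) + 1) ^ 3 ≤ 720 * (d * z) + 1 := by
    refine le_trans (Nat.pow_le_pow_left ?_ 3) h4
    omega
  have h6 : d ≤ 4 := hi4
  have h7 : 1 ≤ d := hi1
  clear hz h4 h3 hz1 hlt hk
  rcases Nat.lt_or_ge z 19 with h8 | h8
  · interval_cases d <;> interval_cases z <;> (clear * - h5; omega)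
  · have h9 : (2 * 19) * (2 * 19) * (2 * z) ≤ (2 * (z + 3 + d) + 1) ^ 3 := by
      rw [pow_succ, pow_succ, pow_one]
      exact Nat.mul_le_mul (Nat.mul_le_mul (by (clear * - h8; omega)) (by (clear * - h8; omega))) (by (clear * -; omega))
    have h10 : d * z ≤ 4 * z := Nat.mul_le_mul_right _ h6
    omega

/-- **The alternating groups.** -/
theorem fine_alt {T : Type u} [Group T] [Finite T] (h : Cfsg.IsAlternating T) : Fine.{u, u} T := by
  obtain ⟨n, hn, ⟨e⟩⟩ := h
  rcases Nat.lt_or_ge n 9 with h9 | h9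
  · interval_cases n
    · exact fine_five.congr e.symm
    · exact fine_six.congr e.symm
    · exact fine_seven.congr e.symm
    · exact fine_eight.congr e.symm
  · exact (fine_big h9).congr e.symm

end Cfsg.Agent.H656.FineAlt
end

-- part: H680/FinePSL
section
/-!
# The condition `Fine` for `PSL₂(q)`
-/

set_option autoImplicit false

universe u w

namespace Cfsg.Agent.H680.FinePSL

open Matrix Cfsg.Agent.H698

theorem suff {p m A : ℕ} (hp : 11 ≤ p) (hm : 1 ≤ m) (h : A ≤ p ^ (m - 1)) : (p - 9) * A + 1 < p ^ m := by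
  obtain ⟨n, rfl⟩ : ∃ n, m = n + 1 := ⟨m - 1, by omega⟩
  rw [Nat.add_sub_cancel] at h
  obtain ⟨r, rfl⟩ : ∃ r, p = r + 9 := ⟨p - 9, by omega⟩
  have h1 : 1 ≤ (r + 9) ^ n := Nat.one_le_pow _ _ (by omega)
  have h2 : r * A ≤ r * (r + 9) ^ n := Nat.mul_le_mul_left _ h
  rw [Nat.add_sub_cancel, pow_succ]
  linarith only [h1, h2]

theorem pow4 {k : ℕ} (hk : 5 ≤ k) : (2 * k + 1) ^ 4 ≤ 11 ^ (k - 1) := by
  induction k, hk using Nat.le_induction with
  | base => norm_num
  | succ k hk ih =>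
    obtain ⟨n, rfl⟩ : ∃ n, k = n + 5 := ⟨k - 5, by omega⟩
    have h1 : n + 5 + 1 - 1 = (n + 5 - 1) + 1 := by omega
    rw [h1, pow_succ]
    refine le_trans ?_ (Nat.mul_le_mul_right 11 ih)
    have : (2 * (n + 5 + 1) + 1) ^ 4 ≤ (2 * (n + 5) + 1) ^ 4 * 11 := by
      ring_nf
      gcongr <;> norm_num
    exact this

theorem fine {F : Type} [Field F] [Fintype F] (hq : 4 ≤ Fintype.card F) (h9 : Fintype.card F ≠ 9) :
    Fine.{0, w} (ProjectiveSpecialLinearGroup (Fin 2) F) := by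
  classical
  obtain ⟨p₀, hp₀⟩ := CharP.exists F
  obtain ⟨⟨f, hf⟩, hpp, hF⟩ := FiniteField.card F p₀
  simp only [PNat.mk_coe] at hF
  have hA := Cfsg.Agent.H412.ReeOut.card_mulAut hpp hf hF hq
  have hG := Cfsg.Agent.ClassicalGeometry.PSL2Basic.card_PSL2_gcd (F := F)
  have hf2 : f < p₀ ^ f := Nat.lt_pow_self hpp.one_lt
  rw [mul_assoc, mul_comm (Nat.gcd _ _), hG] at hA
  have hS : IsSimpleGroup (ProjectiveSpecialLinearGroup (Fin 2) F) :=
    Matrix.ProjectiveSpecialLinearGroup.rank_two_simple (by rw [Nat.card_eq_fintype_card]; omega)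
  have hj : (QuotientGroup.mk' (Subgroup.center (_root_.Matrix.SpecialLinearGroup (Fin 2) F)))
      (Cfsg.Agent.H203.BdSL2.up 1) ≠ 1 := by
    intro h
    rw [← MonoidHom.mem_ker, QuotientGroup.ker_mk'] at h
    exact one_ne_zero (Cfsg.Agent.H203.BdSL2.up_center h)
  generalize hqq : Fintype.card F = q at *
  have hgcd : Nat.gcd 2 (q - 1) = 1 ∨ Nat.gcd 2 (q - 1) = 2 :=
    (Nat.dvd_prime Nat.prime_two).1 (Nat.gcd_dvd_left 2 (q - 1))
  have hpG : p₀ ∣ Nat.card (ProjectiveSpecialLinearGroup (Fin 2) F) := by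
    have h1 : p₀ ∣ q := by rw [hF]; exact dvd_pow_self _ (by omega)
    have h2 : Nat.Coprime p₀ (Nat.gcd 2 (q - 1)) := by
      rw [Nat.Prime.coprime_iff_not_dvd hpp]
      intro h3
      have h4 : p₀ ∣ q - 1 := h3.trans (Nat.gcd_dvd_right _ _)
      have h5 : p₀ ∣ 1 := by
        have := (Nat.dvd_sub h1 h4)
        rwa [Nat.sub_sub_self (by omega)] at this
      exact hpp.one_lt.ne' (Nat.dvd_one.1 h5)
    refine h2.dvd_of_dvd_mul_right (n := Nat.gcd 2 (q - 1)) ?_
    rw [hG]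
    exact Dvd.dvd.mul_right h1 _
  have hq2 : q ^ 2 - 1 ≤ q ^ 2 := Nat.sub_le _ _
  have hT : 42 < Nat.card (ProjectiveSpecialLinearGroup (Fin 2) F) := by
    by_cases h4 : q = 4
    · rw [h4, show Nat.gcd 2 (4 - 1) = 1 from rfl, mul_one] at hG
      rw [hG]
      norm_num
    · have h5 : 5 ≤ q := by omega
      have h6 : 24 ≤ q ^ 2 - 1 := by
        have : 25 ≤ q ^ 2 := by nlinarith only [h5]
        omega
      have h7 : 5 * 24 ≤ q * (q ^ 2 - 1) := Nat.mul_le_mul h5 h6
      rw [← hG] at h7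
      rcases hgcd with h | h <;> rw [h] at h7 <;> omega
  refine Fine.of_lt5 (Cfsg.Agent.H412.ReeOut.psl_center (by omega)) hT fun p m hp h11 hpT hm hR => ?_
  by_cases h7 : q ≤ 7
  · have hf3 : f ≤ 2 := by
      by_contra hcon
      have : p₀ ^ 3 ≤ p₀ ^ f := Nat.pow_le_pow_right hpp.pos (by omega)
      have : 2 ^ 3 ≤ p₀ ^ 3 := Nat.pow_le_pow_left hpp.two_le 3
      omega
    have hp2 : 11 ^ 2 ≤ p ^ (m - 1) :=
      (Nat.pow_le_pow_left h11 2).trans (Nat.pow_le_pow_right (by omega) (by omega))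
    have hp3 : p ^ 3 ≤ p ^ m := Nat.pow_le_pow_right (by omega) hm
    have h6 : ∀ p f : ℕ, p.Prime → 2 ≤ f → f ≤ 2 → p ^ f = q → q = 4 := by
      intro a b ha hb hb2 hab
      obtain rfl : b = 2 := by omega
      have : a < 3 := by
        by_contra hcon
        have : 3 ^ 2 ≤ a ^ 2 := Nat.pow_le_pow_left (by omega) 2
        omega
      have := ha.two_le
      obtain rfl : a = 2 := by omega
      omega
    by_cases h4 : q = 4
    · apply suff h11 (by omega)
      refine le_trans ?_ hp2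
      rw [hA, h4]
      omega
    · have hf1 : f = 1 := by
        by_contra hcon
        exact h4 (h6 p₀ f hpp (by omega) hf3 hF.symm)
      rw [hf1, pow_one] at hF
      have hne : q ≠ 6 := by
        intro h
        rw [← hF, h] at hpp
        revert hpp
        norm_num
      rw [hf1, one_mul] at hA
      rcases (by omega : q = 5 ∨ q = 7) with h5 | h5
      · apply suff h11 (by omega)
        refine le_trans ?_ hp2
        rw [hA, h5]
        norm_num
      · rw [hA, h5]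
        refine lt_of_lt_of_le ?_ hp3
        obtain ⟨t, rfl⟩ : ∃ t, p = t + 11 := ⟨p - 11, by omega⟩
        have : t + 11 - 9 = t + 2 := by omega
        rw [this]
        ring_nf
        have : 0 ≤ t ^ 2 := Nat.zero_le _
        have : 0 ≤ t ^ 3 := Nat.zero_le _
        omega
  · have hLS := Cfsg.Agent.H203.LS.LS.sl2.{0, w, w} (r := p₀) hqq (by omega) h9
      (T := ProjectiveSpecialLinearGroup (Fin 2) F)
      (QuotientGroup.mk' (Subgroup.center (_root_.Matrix.SpecialLinearGroup (Fin 2) F))) hj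
    have hd := Rep.le_of_LS hp hpp hpG hpT hR hLS
    apply suff h11 (by omega)
    rw [hA]
    generalize hdd : (q - 1) / Nat.gcd 2 (q - 1) = d at *
    have h1 : 11 ^ (d - 1) ≤ p ^ (m - 1) :=
      (Nat.pow_le_pow_left h11 _).trans (Nat.pow_le_pow_right (by omega) (by omega))
    refine le_trans ?_ h1
    by_cases h8 : q = 8
    · have h9 : d = 7 := by
        rw [← hdd, h8]
        norm_num
      have h10 : f ≤ 3 := by
        by_contra hcon
        have : p₀ ^ 4 ≤ p₀ ^ f := Nat.pow_le_pow_right hpp.pos (by omega)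
        have : 2 ^ 4 ≤ p₀ ^ 4 := Nat.pow_le_pow_left hpp.two_le 4
        omega
      rw [h9, h8]
      norm_num
      omega
    · have h10 : q ≠ 10 := by
        intro h
        have h2 : (2 : ℕ) ∣ p₀ ^ f := by rw [← hF, h]; norm_num
        have h5 : (5 : ℕ) ∣ p₀ ^ f := by rw [← hF, h]; norm_num
        have h3 := (Nat.prime_dvd_prime_iff_eq Nat.prime_two hpp).1 (Nat.prime_two.dvd_of_dvd_pow h2)
        have h4 := (Nat.prime_dvd_prime_iff_eq Nat.prime_five hpp).1 (Nat.prime_five.dvd_of_dvd_pow h5)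
        omega
      have h11q : 11 ≤ q := by omega
      have h2 : 5 ≤ d ∧ q ≤ 2 * d + 1 := by
        rcases hgcd with h | h
        · rw [h, Nat.div_one] at hdd
          omega
        · have := Nat.div_mul_cancel (Nat.gcd_dvd_right 2 (q - 1))
          rw [h] at hdd this
          omega
      refine le_trans ?_ (pow4 h2.1)
      calc f * (q * (q ^ 2 - 1)) ≤ q * (q * q ^ 2) := Nat.mul_le_mul (by omega) (Nat.mul_le_mul_left _ hq2)
        _ = q ^ 4 := by ring
        _ ≤ _ := Nat.pow_le_pow_left h2.2 4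

end Cfsg.Agent.H680.FinePSL

namespace Cfsg.Agent.H680

theorem fine_psl2 {T : Type u} [Group T] [Finite T] {F : Type} [Field F] [Fintype F]
    (hq : 4 ≤ Fintype.card F) (h9 : Fintype.card F ≠ 9)
    (e : T ≃* Matrix.ProjectiveSpecialLinearGroup (Fin 2) F) : Cfsg.Agent.H698.Fine.{u, u} T :=
  (FinePSL.fine hq h9).congr e.symm

end Cfsg.Agent.H680
end

-- part: H762/FineExcA
section
/-!
helper762 (market task 768, for S4881): `Fine` for `G₂(q)`, `q ≥ 5`, `³D₄(q)`, `Sz(q)`, `²G₂(q)`, `²F₄(q)`.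
-/

set_option autoImplicit false

namespace Cfsg.Agent.H762.FineExc

open Cfsg Cfsg.Agent.H698 Cfsg.Agent.H92.KTools Cfsg.Agent.H762.FineTools

universe u v w

theorem two_pow (n : ℕ) (a b : ℕ) (h : a * n ≤ 3 * b) : n ^ a ≤ 11 ^ b := by
  have h1 : n ≤ 2 ^ n := Nat.lt_two_pow_self.le
  calc n ^ a ≤ (2 ^ n) ^ a := Nat.pow_le_pow_left h1 a
    _ = 2 ^ (a * n) := by rw [← pow_mul, mul_comm]
    _ ≤ 2 ^ (3 * b) := Nat.pow_le_pow_right (by norm_num) h
    _ = 8 ^ b := by rw [pow_mul]; norm_num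
    _ ≤ 11 ^ b := Nat.pow_le_pow_left (by norm_num) b

/-! ### `G₂(q)` -/

theorem fine_g2_big {F : Type v} [Field F] [Fintype F] (h5 : 5 ≤ Fintype.card F) :
    Fine.{v, w} ↥(Lie.chevG2.group F) := by
  obtain ⟨r, hchar⟩ := CharP.exists F
  have hr : r.Prime := (CharP.char_is_prime_or_zero F r).resolve_right (CharP.char_ne_zero_of_finite F r)
  have hfact : Fact r.Prime := ⟨hr⟩
  obtain ⟨⟨f, hf⟩, -, hcard⟩ := FiniteField.card F r
  have hcard : Fintype.card F = r ^ f := hcard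
  set q := Fintype.card F with hq
  obtain ⟨hs, hna⟩ := S1055.result (F := F) (by
    classical
    by_contra hcon
    push Not at hcon
    have h1 : (Finset.univ : Finset F) ⊆ {0, 1} := by
      intro x _
      simp only [Finset.mem_insert, Finset.mem_singleton]
      by_cases hx : x = 0
      · exact Or.inl hx
      · exact Or.inr (hcon x hx)
    have h2 := Finset.card_le_card h1
    have h3 : ({0, 1} : Finset F).card ≤ 2 := Finset.card_le_two
    rw [Finset.card_univ] at h2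
    omega)
  have hT : Nat.card ↥(Lie.chevG2.group F) = q ^ 6 * (q ^ 2 - 1) * (q ^ 6 - 1) := S1059.result rfl
  have hout : Nat.card (Out ↥(Lie.chevG2.group F)) ≤ 2 * q := by
    rw [S2121.result r f hcard (by rw [← hcard]; omega)]
    have h1 : f < r ^ f := Nat.lt_pow_self hr.one_lt
    split_ifs <;> omega
  have hLS := H203.LS.G2.ls.{v, w, w} (r := r) F (by rw [Nat.card_eq_fintype_card]; omega)
    (by rw [Nat.card_eq_fintype_card]; omega)
  rw [Nat.card_eq_fintype_card, ← hq] at hLS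
  have hd : (q - 1) * q = (q - 1) * q - 1 + 1 := by
    have : 0 < (q - 1) * q := Nat.mul_pos (by omega) (by omega)
    omega
  rw [hd] at hLS
  refine of_LS hna hr ?_ hLS ?_
  · rw [hT]
    refine Dvd.dvd.mul_right (Dvd.dvd.mul_right (dvd_pow ?_ (by norm_num)) _) _
    rw [hcard]
    refine dvd_pow_self r ?_
    rintro rfl
    rw [pow_zero] at hcard
    omega
  · have h1 : Nat.card ↥(Lie.chevG2.group F) ≤ q ^ 14 := by
      rw [hT]
      calc q ^ 6 * (q ^ 2 - 1) * (q ^ 6 - 1) ≤ q ^ 6 * q ^ 2 * q ^ 6 :=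
            Nat.mul_le_mul (Nat.mul_le_mul_left _ (Nat.sub_le _ _)) (Nat.sub_le _ _)
        _ = q ^ 14 := by ring
    have h2 : Nat.card ↥(Lie.chevG2.group F) * Nat.card (Out ↥(Lie.chevG2.group F)) ≤ q ^ 16 := by
      calc _ ≤ q ^ 14 * (2 * q) := Nat.mul_le_mul h1 hout
        _ ≤ q ^ 14 * (q * q) := Nat.mul_le_mul_left _ (Nat.mul_le_mul_right _ (by omega))
        _ = q ^ 16 := by ring
    refine h2.trans ?_
    by_cases h7 : 7 ≤ q
    · apply two_pow
      have h3 : 6 * q ≤ (q - 1) * q := Nat.mul_le_mul_right _ (by omega)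
      omega
    · have h6 : q = 5 ∨ q = 6 := by omega
      rcases h6 with h6 | h6 <;> rw [h6] <;> norm_num

/-! ### `³D₄(q)` -/

theorem fine_3d4 {K : Type v} [Field K] [Fintype K] {q : ℕ} (hq : IsPrimePow q) (hK : Fintype.card K = q ^ 3) :
    Fine.{v, w} ↥(Lie.twistedD4 K q) := by
  obtain ⟨r, f, hr, hf, rfl⟩ := hq
  have hr : r.Prime := hr.nat_prime
  have hfact : Fact r.Prime := ⟨hr⟩
  have hq : IsPrimePow (r ^ f) := ⟨r, f, hr.prime, hf, rfl⟩
  have hchar : CharP K r := H203.LS.charP_of_card (n := f * 3) hr (by rw [hK, pow_mul])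
  obtain ⟨hs, hna⟩ := S1071.result hq hK
  have hT := S1067.result hq hK
  have hout : Nat.card (Out ↥(Lie.twistedD4 K (r ^ f))) ≤ 3 * r ^ f := by
    rw [S2129.result r f (by rw [hK, ← pow_mul, mul_comm]) hf]
    exact Nat.mul_le_mul_left _ (Nat.lt_pow_self hr.one_lt).le
  have hLS := H203.LS.TwD4.ls.{v, w, w} (r := r) hq hK
  have h2 : 2 ≤ r ^ f := hq.two_le
  have hrq : r ∣ r ^ f := dvd_pow_self r hf.ne'
  generalize r ^ f = q at *
  have hd : (q - 1) * q ^ 4 = (q - 1) * q ^ 4 - 1 + 1 := by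
    have : 0 < (q - 1) * q ^ 4 := Nat.mul_pos (by omega) (by positivity)
    omega
  rw [hd] at hLS
  refine of_LS hna hr ?_ hLS ?_
  · rw [hT]
    exact Dvd.dvd.mul_right (Dvd.dvd.mul_right (Dvd.dvd.mul_right (hrq.trans (dvd_pow_self _ (by norm_num))) _) _) _
  · have h8 : q ^ 8 + q ^ 4 + 1 ≤ q ^ 9 := by
      have e1 : q ^ 9 = q * q ^ 8 := by ring
      have e2 : 2 * q ^ 8 ≤ q * q ^ 8 := Nat.mul_le_mul_right _ h2
      have e3 : q ^ 4 + 1 ≤ q ^ 8 := by
        have : q ^ 4 < q ^ 8 := Nat.pow_lt_pow_right (by omega) (by norm_num)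
        omega
      omega
    have h1 : Nat.card ↥(Lie.twistedD4 K q) ≤ q ^ 29 := by
      rw [hT]
      calc q ^ 12 * (q ^ 2 - 1) * (q ^ 6 - 1) * (q ^ 8 + q ^ 4 + 1) ≤ q ^ 12 * q ^ 2 * q ^ 6 * q ^ 9 :=
            Nat.mul_le_mul (Nat.mul_le_mul (Nat.mul_le_mul_left _ (Nat.sub_le _ _)) (Nat.sub_le _ _)) h8
        _ = q ^ 29 := by ring
    have h2' : Nat.card ↥(Lie.twistedD4 K q) * Nat.card (Out ↥(Lie.twistedD4 K q)) ≤ q ^ 32 := by
      calc _ ≤ q ^ 29 * (3 * q) := Nat.mul_le_mul h1 hout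
        _ ≤ q ^ 29 * (q ^ 2 * q) := Nat.mul_le_mul_left _ (Nat.mul_le_mul_right _ (by nlinarith only [h2]))
        _ = q ^ 32 := by ring
    refine h2'.trans ?_
    by_cases h3 : 3 ≤ q
    · apply two_pow
      have h4 : 54 * q ≤ (q - 1) * q ^ 4 := by
        have e1 : 2 * (27 * q) ≤ (q - 1) * q ^ 4 := by
          refine Nat.mul_le_mul (by omega) ?_
          have e2 : q ^ 4 = q ^ 3 * q := by ring
          rw [e2]
          refine Nat.mul_le_mul_right _ ?_
          calc 27 = 3 ^ 3 := by norm_num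
            _ ≤ q ^ 3 := Nat.pow_le_pow_left h3 3
        omega
      omega
    · have h6 : q = 2 := by omega
      rw [h6]
      norm_num

/-! ### `Sz(q)` -/

theorem fine_sz {F : Type v} [Field F] [Fintype F] {m : ℕ} (hm : 1 ≤ m) (hF : Fintype.card F = 2 ^ (2 * m + 1)) :
    Fine.{v, w} ↥(Lie.Sz F (2 ^ (m + 1))) := by
  have hs := S1162.result hm hF
  have hT := (S1163.result hm hF).1
  have hout : Nat.card (Out ↥(Lie.Sz F (2 ^ (m + 1)))) ≤ 2 ^ (2 * m + 1) := by
    rw [S2126.result hm hF]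
    exact (Nat.lt_two_pow_self).le
  have hLS := H203.LS.LS.sz.{v, w, w} hm hF
  rw [Nat.card_eq_fintype_card, hF] at hLS
  have h8 : 8 ≤ 2 ^ (2 * m + 1) := by
    calc 8 = 2 ^ 3 := by norm_num
      _ ≤ _ := Nat.pow_le_pow_right (by norm_num) (by omega)
  have h2q : 2 ∣ 2 ^ (2 * m + 1) := dvd_pow_self 2 (by omega)
  generalize 2 ^ (2 * m + 1) = q at *
  have hna : ¬ IsMulCommutative ↥(Lie.Sz F (2 ^ (m + 1))) := by
    intro hc
    have hp : (Nat.card ↥(Lie.Sz F (2 ^ (m + 1)))).Prime := by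
      have : IsCyclic ↥(Lie.Sz F (2 ^ (m + 1))) := by
        letI : CommGroup ↥(Lie.Sz F (2 ^ (m + 1))) := { (inferInstance : Group ↥(Lie.Sz F (2 ^ (m + 1)))) with mul_comm := hc.is_comm.comm }
        exact IsSimpleGroup.isCyclic
      letI : CommGroup ↥(Lie.Sz F (2 ^ (m + 1))) := { (inferInstance : Group ↥(Lie.Sz F (2 ^ (m + 1)))) with mul_comm := hc.is_comm.comm }
      exact IsSimpleGroup.prime_card
    rw [hT] at hp
    have h1 := Nat.not_prime_mul (a := q ^ 2 * (q - 1)) (b := q ^ 2 + 1) ?_ ?_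
    · exact h1 hp
    · intro h2
      have := Nat.eq_one_of_mul_eq_one_right h2
      nlinarith only [h8, this]
    · nlinarith only [h8]
  have hd : q - 1 = q - 2 + 1 := by omega
  rw [hd] at hLS
  refine of_LS hna Nat.prime_two ?_ hLS ?_
  · rw [hT]
    exact Dvd.dvd.mul_right (Dvd.dvd.mul_right (h2q.trans (dvd_pow_self _ (by norm_num))) _) _
  · have h1 : Nat.card ↥(Lie.Sz F (2 ^ (m + 1))) ≤ q ^ 5 := by
      rw [hT]
      obtain ⟨k, rfl⟩ : ∃ k, q = k + 1 := ⟨q - 1, by omega⟩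
      rw [Nat.add_sub_cancel]
      calc (k + 1) ^ 2 * k * ((k + 1) ^ 2 + 1) = (k + 1) ^ 2 * (k * ((k + 1) ^ 2 + 1)) := by ring
        _ ≤ (k + 1) ^ 2 * (k + 1) ^ 3 := Nat.mul_le_mul_left _ (by linarith only [_root_.sq_nonneg (↑k : ℤ)])
        _ = (k + 1) ^ 5 := by ring
    calc _ ≤ q ^ 5 * q := Nat.mul_le_mul h1 hout
      _ = q ^ 6 := by ring
      _ ≤ 11 ^ (q - 2) := pow_six q h8

/-! ### `²G₂(q)` -/

theorem pow_eight (n : ℕ) (hn : 27 ≤ n) : n ^ 8 ≤ 11 ^ (n - 2) := by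
  induction n, hn using Nat.le_induction with
  | base => norm_num
  | succ n hn ih =>
    have e : n + 1 - 2 = n - 2 + 1 := by omega
    rw [e, pow_succ 11]
    have h1 : (n + 1) ^ 8 ≤ 11 * n ^ 8 := by
      have h2 : (n + 1) ^ 2 ≤ 3 * n ^ 2 - n ^ 2 := by
        have : (n + 1) ^ 2 ≤ 2 * n ^ 2 := by nlinarith only [hn]
        omega
      have h3 : 27 * (n + 1) ≤ 28 * n := by omega
      have h4 : (27 * (n + 1)) ^ 8 ≤ (28 * n) ^ 8 := Nat.pow_le_pow_left h3 8
      rw [mul_pow, mul_pow] at h4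
      have h5 : (27 : ℕ) ^ 8 = 282429536481 := by norm_num
      have h6 : (28 : ℕ) ^ 8 = 377801998336 := by norm_num
      rw [h5, h6] at h4
      omega
    omega

theorem fine_ree {F : Type v} [Field F] [Fintype F] {m : ℕ} (hm : 1 ≤ m) (hF : Fintype.card F = 3 ^ (2 * m + 1)) :
    Fine.{v, w} ↥(Lie.twistedG2 F (3 ^ m)) := by
  obtain ⟨hs, hna⟩ := S1073.result hm hF
  have hT := S1069.result hF
  have hout : Nat.card (Out ↥(Lie.twistedG2 F (3 ^ m))) ≤ 3 ^ (2 * m + 1) := by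
    rw [S2127.result hm hF]
    exact (Nat.lt_pow_self (by norm_num)).le
  have hLS := H203.LS.LS.ree.{v, w, w} hm hF
  rw [Nat.card_eq_fintype_card, hF] at hLS
  have h8 : 27 ≤ 3 ^ (2 * m + 1) := by
    calc 27 = 3 ^ 3 := by norm_num
      _ ≤ _ := Nat.pow_le_pow_right (by norm_num) (by omega)
  have h2q : 3 ∣ 3 ^ (2 * m + 1) := dvd_pow_self 3 (by omega)
  generalize 3 ^ (2 * m + 1) = q at *
  have hd : q - 1 = q - 2 + 1 := by omega
  rw [hd] at hLS
  refine of_LS hna Nat.prime_three ?_ hLS ?_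
  · rw [hT]
    exact Dvd.dvd.mul_right (Dvd.dvd.mul_right (h2q.trans (dvd_pow_self _ (by norm_num))) _) _
  · have h1 : Nat.card ↥(Lie.twistedG2 F (3 ^ m)) ≤ q ^ 7 := by
      rw [hT]
      obtain ⟨k, rfl⟩ : ∃ k, q = k + 1 := ⟨q - 1, by omega⟩
      rw [Nat.add_sub_cancel]
      calc (k + 1) ^ 3 * k * ((k + 1) ^ 3 + 1) = (k + 1) ^ 3 * (k * ((k + 1) ^ 3 + 1)) := by ring
        _ ≤ (k + 1) ^ 3 * (k + 1) ^ 4 := Nat.mul_le_mul_left _ (by linarith only [pow_nonneg (Nat.zero_le k) 3, _root_.sq_nonneg (↑k : ℤ)])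
        _ = (k + 1) ^ 7 := by ring
    calc _ ≤ q ^ 7 * q := Nat.mul_le_mul h1 hout
      _ = q ^ 8 := by ring
      _ ≤ 11 ^ (q - 2) := pow_eight q h8

/-! ### `²F₄(q)` -/

theorem fine_2f4 {F : Type v} [Field F] [Fintype F] {m : ℕ} (hm : 1 ≤ m) (hF : Fintype.card F = 2 ^ (2 * m + 1)) :
    Fine.{v, w} ↥(Lie.twistedF4 F (2 ^ m)) := by
  obtain ⟨hs, hna⟩ := S1072.result hm hF
  have hT := S1068.result hF
  have hout : Nat.card (Out ↥(Lie.twistedF4 F (2 ^ m))) ≤ 2 ^ (2 * m + 1) := by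
    rw [S2128.result hm hF]
    exact (Nat.lt_two_pow_self).le
  have hLS := H203.LS.TwF4.ls.{v, w, w} hm hF
  rw [Nat.card_eq_fintype_card, hF] at hLS
  have h8 : 8 ≤ 2 ^ (2 * m + 1) := by
    calc 8 = 2 ^ 3 := by norm_num
      _ ≤ _ := Nat.pow_le_pow_right (by norm_num) (by omega)
  have h2q : 2 ∣ 2 ^ (2 * m + 1) := dvd_pow_self 2 (by omega)
  generalize 2 ^ (2 * m + 1) = q at *
  have hd : (q - 1) * q ^ 2 = (q - 1) * q ^ 2 - 1 + 1 := by
    have : 0 < (q - 1) * q ^ 2 := Nat.mul_pos (by omega) (by positivity)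
    omega
  rw [hd] at hLS
  refine of_LS hna Nat.prime_two ?_ hLS ?_
  · rw [hT, mul_assoc, mul_assoc, mul_assoc]
    exact Dvd.dvd.mul_right (h2q.trans (dvd_pow_self _ (by norm_num))) _
  · have e3 : q ^ 3 + 1 ≤ q ^ 4 := by
      have : q ^ 3 < q ^ 4 := Nat.pow_lt_pow_right (by omega) (by norm_num)
      omega
    have e6 : q ^ 6 + 1 ≤ q ^ 7 := by
      have : q ^ 6 < q ^ 7 := Nat.pow_lt_pow_right (by omega) (by norm_num)
      omega
    have h1 : Nat.card ↥(Lie.twistedF4 F (2 ^ m)) ≤ q ^ 28 := by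
      rw [hT]
      calc q ^ 12 * (q - 1) * (q ^ 3 + 1) * (q ^ 4 - 1) * (q ^ 6 + 1) ≤ q ^ 12 * q * q ^ 4 * q ^ 4 * q ^ 7 :=
            Nat.mul_le_mul (Nat.mul_le_mul (Nat.mul_le_mul (Nat.mul_le_mul_left _ (Nat.sub_le _ _)) e3)
              (Nat.sub_le _ _)) e6
        _ = q ^ 28 := by ring
    calc _ ≤ q ^ 28 * q := Nat.mul_le_mul h1 hout
      _ = q ^ 29 := by ring
      _ ≤ 11 ^ ((q - 1) * q ^ 2 - 1) := by
        apply two_pow
        have e1 : 7 * (8 * q) ≤ (q - 1) * q ^ 2 := by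
          refine Nat.mul_le_mul (by omega) ?_
          rw [sq]
          exact Nat.mul_le_mul_right _ h8
        omega

end Cfsg.Agent.H762.FineExc
end

-- part: H762/FineExcB
section
/-!
helper762 (market task 768, for S4881): `Fine` for the Tits group, `G₂(3)` and (given `m ≥ 7`) `G₂(4)`.
-/

set_option autoImplicit false

namespace Cfsg.Agent.H762.FineExc

open Cfsg Cfsg.Agent.H698 Cfsg.Agent.H92.KTools Cfsg.Agent.H762.FineTools Cfsg.Agent.H203.LS

universe u v w

/-! ### The Tits group -/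

/-- the nontrivial projective representations of the Tits group have degree at least six -/
theorem ls_tits : LS.{0, v, w} 13 6 Lie.TitsGroup := by
  obtain ⟨-, hs, hna, hcard⟩ := S1074.result
  refine LS.of_core fun P _ π k _ _ V _ _ _ ρ h => ?_
  have hfin : Finite Lie.TitsGroup := Nat.finite_of_card_ne_zero (by rw [hcard]; norm_num)
  have hperf : Group.IsPerfect Lie.TitsGroup := isPerfect hna
  obtain ⟨η, hη⟩ := H487.exists_lift_of_trivial hperf S2115.result (MonoidHom.id Lie.TitsGroup) h.surj h.cen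
  have hη' : ∀ x, π (η x) = x := fun x => DFunLike.congr_fun hη x
  obtain ⟨x, t, j, hx13, hx1, htx, hjx⟩ := H547.SelfCent.TitsRow.exists_tits
  let f : Lie.TitsGroup → V →ₗ[k] V := fun g => ρ (η g)
  have fmul : ∀ a b v, f (a * b) v = f a (f b v) := fun a b v => by
    show ρ (η (a * b)) v = _
    rw [map_mul, map_mul]; rfl
  have hne : f x ≠ 1 := h.ne_one (by rw [hη']; exact hx1)
  have hpow : f x ^ 13 = 1 := by
    show ρ (η x) ^ 13 = 1
    rw [← map_pow, ← map_pow, hx13, map_one, map_one]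
  obtain ⟨s, hs1, v, hv0, hv⟩ := exists_eigen h.rk hpow hne
  have hfpow : ∀ (n : ℕ) (v : V) (c : k), f x v = c • v → f (x ^ n) v = c ^ n • v := by
    intro n v c hc
    induction n with
    | zero => simp only [f, _root_.pow_zero, _root_.map_one, _root_.Module.End.one_apply, _root_.one_smul]
    | succ n ih => rw [pow_succ, fmul, hc, map_smul, ih, smul_smul, pow_succ']
  have hs13 : s ^ 13 = 1 := by
    have h1 := hfpow 13 v s hv
    rw [hx13] at h1
    have h2 : f 1 v = v := by simp only [f, _root_.map_one, _root_.Module.End.one_apply]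
    rw [h2] at h1
    have h3 : (s ^ 13 - 1) • v = 0 := by rw [sub_smul, one_smul, ← h1, sub_self]
    exact sub_eq_zero.1 ((smul_eq_zero.1 h3).resolve_right hv0)
  -- conjugating eigenvectors
  have hcj : ∀ (g : Lie.TitsGroup) (n : ℕ), g * x * g⁻¹ = x ^ n → ∀ (v : V) (c : k), f x v = c • v →
      f x (f g⁻¹ v) = c ^ n • f g⁻¹ v := by
    intro g n hg v c hc
    have e : x * g⁻¹ = g⁻¹ * x ^ n := by rw [← hg]; group
    rw [← fmul, e, fmul, hfpow n v c hc, map_smul]
  have hinj : ∀ (g : Lie.TitsGroup) {v : V}, v ≠ 0 → f g v ≠ 0 := fun g v hv => h.ne_zero _ hv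
  have hj12 : j * x * j⁻¹ = x ^ 12 := by
    rw [hjx, inv_eq_iff_mul_eq_one, ← pow_succ', hx13]
  have h13p : Nat.Prime 13 := by norm_num
  -- six eigenvalues
  let e : Fin 6 → ℕ := ![1, 3, 9, 12, 36, 108]
  have hvec : ∀ i : Fin 6, ∃ w : V, w ≠ 0 ∧ f x w = s ^ e i • w := by
    have a1 : ∃ w : V, w ≠ 0 ∧ f x w = s ^ 1 • w := ⟨v, hv0, by rw [pow_one]; exact hv⟩
    have up3 : ∀ n, (∃ w : V, w ≠ 0 ∧ f x w = s ^ n • w) → ∃ w : V, w ≠ 0 ∧ f x w = s ^ (n * 3) • w := by
      rintro n ⟨w, hw, hw'⟩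
      exact ⟨f t⁻¹ w, hinj _ hw, by rw [pow_mul]; exact hcj t 3 htx w _ hw'⟩
    have up12 : ∀ n, (∃ w : V, w ≠ 0 ∧ f x w = s ^ n • w) → ∃ w : V, w ≠ 0 ∧ f x w = s ^ (n * 12) • w := by
      rintro n ⟨w, hw, hw'⟩
      exact ⟨f j⁻¹ w, hinj _ hw, by rw [pow_mul]; exact hcj j 12 hj12 w _ hw'⟩
    have a3 := up3 1 a1
    have a9 := up3 _ a3
    intro i
    fin_cases i
    · exact a1
    · exact a3
    · exact a9
    · exact up12 1 a1
    · exact up12 _ a3
    · exact up12 _ a9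
  choose w hw0 hw using hvec
  have key := card_le_of_weights (k := k) (J := Unit) (fun _ => f x) w (fun i _ => s ^ e i) hw0 (fun i _ => hw i) (by
    intro a b hab
    have h1 : s ^ e a = s ^ e b := congrFun hab ()
    have hord : orderOf s = 13 := by
      have : Fact (Nat.Prime 13) := ⟨h13p⟩
      exact orderOf_eq_prime hs13 hs1
    have hprim : IsPrimitiveRoot s 13 := by
      rw [← hord]
      exact IsPrimitiveRoot.orderOf s
    rw [pow_eq_pow_mod (e a) hs13, pow_eq_pow_mod (e b) hs13] at h1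
    have h2 := hprim.pow_inj (Nat.mod_lt _ (by norm_num)) (Nat.mod_lt _ (by norm_num)) h1
    clear hab h1
    revert a b
    decide)
  simpa using key

theorem fine_tits_aux {T : Type v} [Group T] [Finite T] [IsSimpleGroup T] (hna : ¬ IsMulCommutative T)
    (hcard : Nat.card T = 2 ^ 11 * 3 ^ 3 * 5 ^ 2 * 13) (hout : Nat.card (Out T) ≤ 2) (h16 : HasOrd T 16)
    (h12 : HasOrd T 12) (h10 : HasOrd T 10) (hLS : LS.{v, w, w} 13 6 T) : Fine.{v, w} T := by
  have hc := center_bot hna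
  have h13 : HasOrd T 13 := hasOrd_prime (by norm_num) (by rw [hcard]; norm_num)
  have hA : Nat.card (MulAut T) ≤ 35942400 := by
    rw [card_aut hna, hcard]
    calc 2 ^ 11 * 3 ^ 3 * 5 ^ 2 * 13 * Nat.card (Out T) ≤ 2 ^ 11 * 3 ^ 3 * 5 ^ 2 * 13 * 2 :=
          Nat.mul_le_mul_left _ hout
      _ = 35942400 := by norm_num
  refine Fine.of_classes (k := 11) ?_ ?_
  · have := classes_of_orders hc {1, 2, 3, 4, 5, 6, 8, 10, 12, 13, 16} (by
      simp only [Finset.mem_insert, Finset.mem_singleton, forall_eq_or_imp, forall_eq]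
      exact ⟨hasOrd_one _, h12.of_dvd (by norm_num) (by norm_num), h12.of_dvd (by norm_num) (by norm_num),
        h12.of_dvd (by norm_num) (by norm_num), h10.of_dvd (by norm_num) (by norm_num),
        h12.of_dvd (by norm_num) (by norm_num), h16.of_dvd (by norm_num) (by norm_num), h10, h12, h13, h16⟩)
    intro X hX
    exact le_trans (by decide) (this X hX)
  · intro p m hp h11 hpT hm hR
    have h6 := Rep.le_of_LS hp (by norm_num : Nat.Prime 13) (by rw [hcard]; norm_num) hpT hR hLS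
    have h1 : p ^ 6 ≤ p ^ m := Nat.pow_le_pow_right (by omega) h6
    have h2 : (p + 1 - 2 * 11) * Nat.card (MulAut T) ≤ (p + 1 - 2 * 11) * 35942400 :=
      Nat.mul_le_mul_left _ hA
    have h3 : (p + 1 - 2 * 11) * 35942400 + 1 < p ^ 6 := by
      by_cases h37 : 37 ≤ p
      · have h4 : 37 ^ 5 ≤ p ^ 5 := Nat.pow_le_pow_left h37 5
        have h5 : (p + 1 - 2 * 11) * 35942400 ≤ (p - 21) * p ^ 5 := by
          have e : p + 1 - 2 * 11 = p - 21 := by omega
          rw [e]
          exact Nat.mul_le_mul_left _ (le_trans (by norm_num) h4)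
        have h7 : (p - 21) * p ^ 5 + 21 * p ^ 5 = p ^ 6 := by
          rw [← add_mul, Nat.sub_add_cancel (by omega)]; ring
        omega
      · have h38 : p < 37 := by omega
        clear h2 h1 hR hpT hp h6
        interval_cases p <;> norm_num
    omega

set_option maxRecDepth 100000 in
theorem ho16 : HasOrd Lie.TitsGroup 16 := H92.ExcTits.hasOrd_tits (by decide) (by decide) H92.ExcTits.t16

set_option maxRecDepth 100000 in
theorem ho12 : HasOrd Lie.TitsGroup 12 := H92.ExcTits.hasOrd_tits (by decide) (by decide) H92.ExcTits.t12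

set_option maxRecDepth 100000 in
theorem ho10 : HasOrd Lie.TitsGroup 10 := H92.ExcTits.hasOrd_tits (by decide) (by decide) H92.ExcTits.t10

theorem fine_tits {T : Type v} [Group T] (h : Lie.IsoTits T) : Fine.{v, w} T := by
  have hcard : Nat.card T = 2 ^ 11 * 3 ^ 3 * 5 ^ 2 * 13 := by
    rw [H707.RowTits.card_eq h]; norm_num
  have hfin : Finite T := Nat.finite_of_card_ne_zero (by rw [hcard]; norm_num)
  have hs : IsSimpleGroup T := H226.Setup.simple_tits h
  have hna : ¬ IsMulCommutative T := not_comm (by rw [hcard]; norm_num)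
  have hout := H867.TitsOut.card_out_le h
  obtain ⟨e⟩ := h
  exact fine_tits_aux hna hcard hout (ho16.of_equiv e.symm) (ho12.of_equiv e.symm)
    (ho10.of_equiv e.symm) (LS.congr (T := Lie.TitsGroup) e.symm ls_tits.{w, w})

/-! ### `G₂(3)` -/

theorem fine_g2_three {F : Type v} [Field F] [Fintype F] (hF : Fintype.card F = 3) :
    Fine.{v, w} ↥(Lie.chevG2.group F) := by
  have hF' : Nat.card F = 3 := by rw [Nat.card_eq_fintype_card, hF]
  have hfact : Fact (Nat.Prime 3) := ⟨Nat.prime_three⟩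
  have hchar : CharP F 3 := charP_of_card (n := 1) Nat.prime_three (by rw [hF]; norm_num)
  obtain ⟨hs, hna⟩ := S1055.result (F := F) (by
    refine ⟨2, ?_, ?_⟩
    · intro h
      have h1 : ((2 : ℕ) : F) = 0 := by exact_mod_cast h
      rw [CharP.cast_eq_zero_iff F 3] at h1
      norm_num at h1
    · intro h
      exact one_ne_zero (α := F) (by linear_combination h))
  have hT : Nat.card ↥(Lie.chevG2.group F) = 4245696 := by rw [S1059.result hF]; norm_num
  have hA : Nat.card (MulAut ↥(Lie.chevG2.group F)) = 8491392 := by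
    rw [card_aut hna, hT, S2121.result (F := F) 3 1 (by rw [hF]; norm_num) (by norm_num)]
    norm_num
  have hLS := H203.LS.G2.ls.{v, w, w} (r := 3) F (by rw [hF']; norm_num) (by rw [hF']; norm_num)
  rw [hF'] at hLS
  have hc := center_bot hna
  -- element orders
  have h : Fintype.card F = Fintype.card (ZMod 3) := by rw [hF, ZMod.card]
  let e2 : F ≃+* ZMod 3 := FiniteField.ringEquivOfCardEq h
  let e3 := ChevalleyStructure.FieldIso.groupEquiv Lie.chevG2 e2
  have key : ∀ {x : GL Lie.chevG2.Idx (ZMod 3)} (_ : x ∈ Lie.chevG2.group (ZMod 3)) {n : ℕ}, orderOf x = n →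
      HasOrd ↥(Lie.chevG2.group F) n := by
    intro x hx n hn
    have h1 : HasOrd ↥(Lie.chevG2.group (ZMod 3)) n :=
      ⟨⟨x, hx⟩, by rw [← hn]; exact (orderOf_injective (Subgroup.subtype _) (Subgroup.subtype_injective _) ⟨x, hx⟩).symm⟩
    exact h1.of_equiv e3.symm
  have h13 : HasOrd ↥(Lie.chevG2.group F) 13 := hasOrd_prime (by norm_num) (by rw [hT]; norm_num)
  have h7 : HasOrd ↥(Lie.chevG2.group F) 7 := hasOrd_prime (by norm_num) (by rw [hT]; norm_num)
  have h8 : HasOrd ↥(Lie.chevG2.group F) 8 := key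
    (mul_mem (mul_mem (ChevalleyStructure.Elts.xG_mem_group H92.ExcThree.hG2 _ _) (ChevalleyStructure.Elts.xG_mem_group H92.ExcThree.hG2 _ _))
      (ChevalleyStructure.Elts.hG_mem_group H92.ExcThree.hG2 _ _))
    (H92.ExcThree.orderOf_eight H92.ExcThree.hG2 (i := 0) (j := 1) (t := 7) (by decide) (by decide) (by decide)
      (by decide) (by decide) (by decide) (by decide) (by decide) (by decide))
  have h12 : HasOrd ↥(Lie.chevG2.group F) 12 := by
    have ha : orderOf (ChevalleyStructure.Elts.xG H92.ExcThree.hG2 11 (1 : ZMod 3)) = 3 :=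
      H92.ExcOrd.orderOf_xG H92.ExcThree.hG2 (by decide) 3
    have ht : orderOf (ChevalleyStructure.Elts.nG H92.ExcThree.hG2 7 (1 : ZMod 3)) = 4 :=
      H92.ExcThree.ord_wel (i := 0) (t := 6) (by decide) (by decide) (by decide) (by decide) rfl
    refine key (x := ChevalleyStructure.Elts.xG H92.ExcThree.hG2 11 1 * ChevalleyStructure.Elts.nG H92.ExcThree.hG2 7 1)
      (mul_mem (ChevalleyStructure.Elts.xG_mem_group H92.ExcThree.hG2 _ _) (ChevalleyStructure.Elts.nG_mem_group H92.ExcThree.hG2 _ _)) ?_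
    have hcw := H92.ExcThree.com_wel (r := 11) (s := 7) (by decide) (by decide) (by decide)
    have hmul := @Commute.orderOf_mul_eq_mul_orderOf_of_coprime (GL Lie.chevG2.Idx (ZMod 3)) _ _ _ hcw (by simp only [ha, ht]; decide)
    simp only [ha, ht] at hmul
    exact hmul
  refine Fine.of_classes (k := 8) ?_ ?_
  · have := classes_of_orders hc {1, 2, 3, 4, 6, 7, 8, 12, 13} (by
      simp only [Finset.mem_insert, Finset.mem_singleton, forall_eq_or_imp, forall_eq]
      exact ⟨hasOrd_one _, h12.of_dvd (by norm_num) (by norm_num), h12.of_dvd (by norm_num) (by norm_num),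
        h12.of_dvd (by norm_num) (by norm_num), h12.of_dvd (by norm_num) (by norm_num), h7, h8, h12, h13⟩)
    intro X hX
    exact le_trans (by decide) (this X hX)
  · intro p m hp h11 hpT hm hR
    have h6 := Rep.le_of_LS hp Nat.prime_three (by rw [hT]; norm_num) hpT hR hLS
    have h1 : p ^ 6 ≤ p ^ m := Nat.pow_le_pow_right (by omega) (by omega)
    rw [hA]
    have h13' : p ≠ 13 := by
      rintro rfl
      exact hpT (by rw [hT]; norm_num)
    have h3 : (p + 1 - 2 * 8) * 8491392 + 1 < p ^ 6 := by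
      by_cases h37 : 25 ≤ p
      · have h4 : 25 ^ 5 ≤ p ^ 5 := Nat.pow_le_pow_left h37 5
        have h5 : (p + 1 - 2 * 8) * 8491392 ≤ (p - 15) * p ^ 5 := by
          have e : p + 1 - 2 * 8 = p - 15 := by omega
          rw [e]
          exact Nat.mul_le_mul_left _ (le_trans (by norm_num) h4)
        have h7 : (p - 15) * p ^ 5 + 15 * p ^ 5 = p ^ 6 := by
          rw [← add_mul, Nat.sub_add_cancel (by omega)]; ring
        omega
      · have h38 : p < 25 := by omega
        clear h1 hR hpT hp h6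
        interval_cases p <;> norm_num
    omega

/-! ### `G₂(4)` -/

theorem fine_g2_four {F : Type v} [Field F] [Fintype F] (hF : Fintype.card F = 4)
    (h7 : ∀ p m : ℕ, p.Prime → 11 ≤ p → ¬ p ∣ Nat.card ↥(Lie.chevG2.group F) → 3 ≤ m →
      _root_.Cfsg.Agent.H698.Rep.{v, w} p m ↥(Lie.chevG2.group F) → 7 ≤ m) :
    Fine.{v, w} ↥(Lie.chevG2.group F) := by
  have hF' : Nat.card F = 4 := by rw [Nat.card_eq_fintype_card, hF]
  have hfact : Fact (Nat.Prime 2) := ⟨Nat.prime_two⟩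
  have hchar : CharP F 2 := charP_of_card (n := 2) Nat.prime_two (by rw [hF]; norm_num)
  obtain ⟨hs, hna⟩ := S1055.result (F := F) (by
    classical
    by_contra hcon
    push Not at hcon
    have h1 : (Finset.univ : Finset F) ⊆ {0, 1} := by
      intro x _
      simp only [Finset.mem_insert, Finset.mem_singleton]
      by_cases hx : x = 0
      · exact Or.inl hx
      · exact Or.inr (hcon x hx)
    have h2 := Finset.card_le_card h1
    have h3 : ({0, 1} : Finset F).card ≤ 2 := Finset.card_le_two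
    rw [Finset.card_univ] at h2
    omega)
  have hT : Nat.card ↥(Lie.chevG2.group F) = 251596800 := by rw [S1059.result hF]; norm_num
  have hA : Nat.card (MulAut ↥(Lie.chevG2.group F)) = 503193600 := by
    rw [card_aut hna, hT, S2121.result (F := F) 2 2 (by rw [hF]; norm_num) (by norm_num)]
    norm_num
  have hc := center_bot hna
  have h : Fintype.card SporRec.GF4.F4 = Fintype.card F := by rw [show Fintype.card SporRec.GF4.F4 = 4 from rfl, hF]
  let e : SporRec.GF4.F4 ≃+* F := FiniteField.ringEquivOfCardEq h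
  let e3 := ChevalleyStructure.FieldIso.groupEquiv Lie.chevG2 e
  have ho : ∀ {n : ℕ}, HasOrd SporRec.G24Mat.Gp n → HasOrd ↥(Lie.chevG2.group F) n := fun h => h.of_equiv e3
  have h8 := ho (H92.ExcG24.hasOrd H92.ExcG24.o8)
  have h10 := ho (H92.ExcG24.hasOrd H92.ExcG24.o10)
  have h12 := ho (H92.ExcG24.hasOrd H92.ExcG24.o12)
  have h13 := ho (H92.ExcG24.hasOrd H92.ExcG24.o13)
  have h15 := ho (H92.ExcG24.hasOrd H92.ExcG24.o15)
  have h21 := ho (H92.ExcG24.hasOrd H92.ExcG24.o21)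
  refine Fine.of_classes (k := 13) ?_ ?_
  · have := classes_of_orders hc {1, 2, 3, 4, 5, 6, 7, 8, 10, 12, 13, 15, 21} (by
      simp only [Finset.mem_insert, Finset.mem_singleton, forall_eq_or_imp, forall_eq]
      exact ⟨hasOrd_one _, h8.of_dvd (by norm_num) (by norm_num), h12.of_dvd (by norm_num) (by norm_num),
        h8.of_dvd (by norm_num) (by norm_num), h10.of_dvd (by norm_num) (by norm_num),
        h12.of_dvd (by norm_num) (by norm_num), h21.of_dvd (by norm_num) (by norm_num), h8, h10, h12, h13, h15, h21⟩)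
    intro X hX
    exact le_trans (by decide) (this X hX)
  · intro p m hp h11 hpT hm hR
    have h6 := h7 p m hp h11 hpT hm hR
    have h1 : p ^ 7 ≤ p ^ m := Nat.pow_le_pow_right (by omega) h6
    rw [hA]
    have h3 : (p + 1 - 2 * 13) * 503193600 + 1 < p ^ 7 := by
      by_cases h37 : 29 ≤ p
      · have h4 : 29 ^ 6 ≤ p ^ 6 := Nat.pow_le_pow_left h37 6
        have h5 : (p + 1 - 2 * 13) * 503193600 ≤ (p - 25) * p ^ 6 := by
          have e : p + 1 - 2 * 13 = p - 25 := by omega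
          rw [e]
          exact Nat.mul_le_mul_left _ (le_trans (by norm_num) h4)
        have h7 : (p - 25) * p ^ 6 + 25 * p ^ 6 = p ^ 7 := by
          rw [← add_mul, Nat.sub_add_cancel (by omega)]; ring
        omega
      · have h38 : p < 29 := by omega
        clear h1 hR hpT hp h6
        interval_cases p <;> norm_num
    omega

end Cfsg.Agent.H762.FineExc
end

-- part: H762/FineExc
section
/-!
helper762 (market task 768, for S4881): `Fine` for the exceptional groups `G₂`, `³D₄`, `Sz`, `²G₂`, `²F₄`, Tits.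
-/

set_option autoImplicit false

namespace Cfsg.Agent.H762.FineExc

open Cfsg Cfsg.Agent.H698 Cfsg.Agent.H762.FineTools

universe u

theorem fine_g2 {T : Type u} [Group T] [Finite T] (h : Lie.IsoChevG2 T) : Fine.{u, u} T := by
  obtain ⟨F, _, _, h3, ⟨e⟩⟩ := h
  rcases Nat.lt_or_ge (Fintype.card F) 5 with h5 | h5
  · have h34 : Fintype.card F = 3 ∨ Fintype.card F = 4 := by omega
    rcases h34 with hF | hF
    · exact (fine_g2_three hF).congr e.symm
    · refine (fine_g2_four hF fun p m hp h11 hpT hm hR => ?_).congr e.symm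
      have hT : Nat.card T = 251596800 := by
        rw [Nat.card_congr e.toEquiv, S1059.result hF]; norm_num
      have hs : IsSimpleGroup T := by
        have := (S1055.result (F := F) (by
          classical
          by_contra hcon
          push Not at hcon
          have h1 : (Finset.univ : Finset F) ⊆ {0, 1} := by
            intro x _
            simp only [Finset.mem_insert, Finset.mem_singleton]
            by_cases hx : x = 0
            · exact Or.inl hx
            · exact Or.inr (hcon x hx)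
          have h2 := Finset.card_le_card h1
          have h3 : ({0, 1} : Finset F).card ≤ 2 := Finset.card_le_two
          rw [Finset.card_univ] at h2
          omega)).1
        exact e.isSimpleGroup
      have hna : ¬ IsMulCommutative T := not_comm (by rw [hT]; norm_num)
      obtain ⟨h1, h2⟩ := H831.RepLift.prime_le hna hp (hR.congr e.symm) (s := 13) (by norm_num) (by rw [hT]; norm_num)
      by_contra hlt
      have hm6 : m = 6 := by omega
      obtain ⟨e'⟩ := h2 (by omega) (by rw [hT]; norm_num)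
      have h13 : Fact (Nat.Prime 13) := ⟨by norm_num⟩
      have hc := SmallSimple.PSLTwoPart.card_psl_two_odd (F := ZMod 13) (by rw [ZMod.card]; decide)
      rw [← Nat.card_congr e'.toEquiv, hT, ZMod.card] at hc
      norm_num at hc
  · exact (fine_g2_big h5).congr e.symm

theorem fine_exc1 {T : Type u} [Group T] [Finite T] (h : Lie.IsoChevG2 T ∨ Lie.Iso3D4 T ∨ Lie.IsoSuzuki T ∨
    Lie.IsoRee T ∨ Lie.Iso2F4 T ∨ Lie.IsoTits T) : Fine.{u, u} T := by
  rcases h with h | h | h | h | h | h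
  · exact fine_g2 h
  · obtain ⟨K, _, _, q, hq, hK, ⟨e⟩⟩ := h
    exact (fine_3d4 hq hK).congr e.symm
  · obtain ⟨K, _, _, m, hm, hK, ⟨e⟩⟩ := h
    exact (fine_sz hm hK).congr e.symm
  · obtain ⟨K, _, _, m, hm, hK, ⟨e⟩⟩ := h
    exact (fine_ree hm hK).congr e.symm
  · obtain ⟨K, _, _, m, hm, hK, ⟨e⟩⟩ := h
    exact (fine_2f4 hm hK).congr e.symm
  · exact fine_tits h

end Cfsg.Agent.H762.FineExc
end
end

-- part: H698/FineAll
section
prune_inst 0x4070220000000000101000000004000100002000008180014200094120000021000a0010040200228000000000000000400000000000000000000000000008000001000c08000006000000000000000000000000000000000000000000000000000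
set_option linter.all false
open scoped Cfsg.Agent.FastGrp

-- part: H454/FinePsl
section
/-!
# `Fine` for `PSL_n(q)`, `n ≥ 3` (helper454, S4881)
-/

set_option autoImplicit false

namespace Cfsg.Agent.H454.FinePsl

universe u v

open Cfsg.Agent.H698 Cfsg.Agent.H912.Bd Cfsg.Agent.H454.FineAux Matrix

section card

variable {F : Type*} [Field F] [Fintype F]

theorem prod_le (q k : ℕ) :
    ∏ i : Fin (k + 1), (q ^ (k + 1) - q ^ (i : ℕ)) ≤ (q - 1) * q ^ ((k + 1) ^ 2 - 1) := by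
  rw [Fin.prod_univ_castSucc]
  have h1 : ∏ i : Fin k, (q ^ (k + 1) - q ^ ((Fin.castSucc i : Fin (k + 1)) : ℕ)) ≤ (q ^ (k + 1)) ^ k := by
    calc _ ≤ ∏ _i : Fin k, q ^ (k + 1) := Finset.prod_le_prod' fun i _ => Nat.sub_le _ _
      _ = _ := by rw [Finset.prod_const, Finset.card_univ, Fintype.card_fin]
  have h2 : q ^ (k + 1) - q ^ ((Fin.last k : Fin (k + 1)) : ℕ) = (q - 1) * q ^ k := by
    rw [Fin.val_last, pow_succ, Nat.sub_mul, one_mul, mul_comm]
  rw [h2]
  calc _ ≤ (q ^ (k + 1)) ^ k * ((q - 1) * q ^ k) := Nat.mul_le_mul_right _ h1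
    _ = (q - 1) * q ^ ((k + 1) * k + k) := by rw [← pow_mul, pow_add]; ring
    _ = _ := by
      congr 2
      have : (k + 1) ^ 2 = (k + 1) * k + k + 1 := by ring
      omega

theorem card_pgl_le {q n : ℕ} (hF : Fintype.card F = q) (hn : 1 ≤ n) :
    Nat.card (ProjGenLinGroup (Fin n) F) ≤ q ^ (n ^ 2 - 1) := by
  obtain ⟨k, rfl⟩ : ∃ k, n = k + 1 := ⟨n - 1, by omega⟩
  have h1 := Cfsg.Agent.S0265.card_GL_eq_PGL (F := F) (n := k + 1) (by omega)
  rw [Matrix.card_GL_field, hF, Nat.card_units, Nat.card_eq_fintype_card, hF] at h1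
  have hq1 : 1 < q := hF ▸ Fintype.one_lt_card
  have h2 := prod_le q k
  rw [h1] at h2
  exact Nat.le_of_mul_le_mul_left h2 (by omega)

theorem dvd_card {q n r : ℕ} (hF : Fintype.card F = q) (hn : 2 ≤ n) (hr : r.Prime) (hrq : r ∣ q) :
    r ∣ Nat.card (ProjectiveSpecialLinearGroup (Fin n) F) := by
  have hq1 : 1 < q := hF ▸ Fintype.one_lt_card
  have h1 := Cfsg.Agent.S0243.result hF n hn
  have h2 : r ∣ ∏ i : Fin n, (q ^ n - q ^ (i : ℕ)) := by
    refine (Dvd.dvd.trans ?_ (Finset.dvd_prod_of_mem _ (Finset.mem_univ (⟨1, by omega⟩ : Fin n))))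
    refine Nat.dvd_sub (hrq.trans (dvd_pow_self q (by omega))) ?_
    simpa using hrq
  rw [← h1] at h2
  have h3 : ¬ r ∣ q - 1 := by
    intro h
    have h4 := (Nat.dvd_sub_iff_right (by omega : 1 ≤ q) hrq).1 h
    exact hr.one_lt.ne' (Nat.dvd_one.1 h4)
  rcases (Nat.Prime.dvd_mul hr).1 h2 with h4 | h4
  · exact absurd (h4.trans (Nat.gcd_dvd_right _ _)) h3
  rcases (Nat.Prime.dvd_mul hr).1 h4 with h5 | h5
  · exact absurd h5 h3
  · exact h5

end card

/-- the inequality -/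
theorem num {n q : ℕ} (hn : 3 ≤ n) (hq : 2 ≤ q) (h32 : ¬ (n = 3 ∧ q = 2)) : (q - 1) * n ^ 2 + 6 ≤ 3 * q ^ (n - 1) := by
  obtain ⟨a, rfl⟩ : ∃ a, q = a + 1 := ⟨q - 1, by omega⟩
  rw [Nat.add_sub_cancel]
  rcases (by omega : n = 3 ∨ 4 ≤ n) with rfl | h4
  · have ha : 2 ≤ a := by omega
    norm_num
    nlinarith
  · clear h32 hn
    induction n, h4 using Nat.le_induction with
    | base =>
      norm_num
      have ha : 1 ≤ a := by omega
      nlinarith only [mul_le_mul ha ha (by norm_num) (by omega)]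
    | succ n hn ih =>
      have ha : 1 ≤ a := by omega
      have e : (a + 1) ^ (n + 1 - 1) = (a + 1) * (a + 1) ^ (n - 1) := by
        rw [← pow_succ']; congr 1; omega
      rw [e]
      have h1 : 2 * (3 * (a + 1) ^ (n - 1)) ≤ (a + 1) * (3 * (a + 1) ^ (n - 1)) := Nat.mul_le_mul_right _ (by omega)
      have h2 : (n + 1) ^ 2 ≤ 2 * n ^ 2 := by nlinarith only [hn]
      have h3 : a * (n + 1) ^ 2 ≤ a * (2 * n ^ 2) := Nat.mul_le_mul_left _ h2
      linarith only [ih, h1, h3]

theorem charP_of_card {F : Type*} [Field F] [Fintype F] : ∃ p f : ℕ, p.Prime ∧ 1 ≤ f ∧ CharP F p ∧ Fintype.card F = p ^ f := by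
  obtain ⟨p, hp⟩ := CharP.exists F
  obtain ⟨f, hpp, hf⟩ := FiniteField.card F p
  exact ⟨p, f, hpp, f.2, hp, hf⟩

/-- **`PSL_n(q)`, `n ≥ 3`**, `(n, q) ≠ (3, 4), (4, 2)`. -/
theorem fine_psl {T : Type u} [Group T] [Finite T] {F : Type} [Field F] [Fintype F] {n : ℕ} (hn : 3 ≤ n)
    (h34 : ¬ (n = 3 ∧ Fintype.card F = 4)) (h42 : ¬ (n = 4 ∧ Fintype.card F = 2))
    (e : T ≃* ProjectiveSpecialLinearGroup (Fin n) F) : Cfsg.Agent.H698.Fine.{u, u} T := by
  obtain ⟨p, f, hp, hf, hchar, hF⟩ := charP_of_card (F := F)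
  have hpf : Fact p.Prime := ⟨hp⟩
  have hs : IsSimpleGroup (ProjectiveSpecialLinearGroup (Fin n) F) := Cfsg.Agent.S0249.result n hn
  have hnt : Nontrivial T := e.toEquiv.nontrivial
  have hsT : IsSimpleGroup T := IsSimpleGroup.isSimpleGroup_of_surjective e.symm.toMonoidHom e.symm.surjective
  have hA : Nat.card (MulAut T) = 2 * f * Nat.card (ProjGenLinGroup (Fin n) F) := by
    rw [card_mulAut_congr e, Cfsg.Agent.S0813.result p f hf hF n (by omega) (by omega), if_neg (by omega)]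
  have hcT : Nat.card T = Nat.card (ProjectiveSpecialLinearGroup (Fin n) F) := Nat.card_congr e.toEquiv
  have hq2 : 2 ≤ p ^ f := by
    have := hF ▸ Fintype.one_lt_card (α := F)
    omega
  by_cases h32 : n = 3 ∧ Fintype.card F = 2
  · -- `PSL_3(2)`
    obtain ⟨rfl, hF2⟩ := h32
    have hpgl : Nat.card (ProjGenLinGroup (Fin 3) F) = 168 := by
      have h1 := Cfsg.Agent.S0265.card_GL_eq_PGL (F := F) (n := 3) (by omega)
      rw [Matrix.card_GL_field, hF2, Nat.card_units, Nat.card_eq_fintype_card, hF2] at h1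
      simp only [Fin.prod_univ_succ, _root_.Nat.reducePow, _root_.Fin.isValue, _root_.Fin.coe_ofNat_eq_mod, _root_.Nat.zero_mod, _root_.pow_zero, _root_.Nat.add_one_sub_one, _root_.Fin.val_succ, _root_.zero_add, _root_.pow_one, _root_.Nat.reduceSub, _root_.Finset.univ_unique, _root_.Fin.default_eq_zero, _root_.Fin.val_eq_zero, _root_.Nat.reduceAdd, _root_.Finset.prod_const, _root_.Finset.card_singleton, _root_.Nat.reduceMul, _root_.one_mul] at h1
      omega
    have hpsl : Nat.card T = 168 := by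
      have h1 := Cfsg.Agent.S0243.result hF2 3 (by norm_num)
      simp only [Fin.prod_univ_succ, _root_.Nat.add_one_sub_one, _root_.Nat.gcd_one_right, _root_.one_mul, _root_.Nat.reducePow, _root_.Fin.isValue, _root_.Fin.coe_ofNat_eq_mod, _root_.Nat.zero_mod, _root_.pow_zero, _root_.Fin.val_succ, _root_.zero_add, _root_.pow_one, _root_.Nat.reduceSub, _root_.Finset.univ_unique, _root_.Fin.default_eq_zero, _root_.Fin.val_eq_zero, _root_.Nat.reduceAdd, _root_.Finset.prod_const, _root_.Finset.card_singleton, _root_.Nat.reduceMul] at h1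
      omega
    have hf1 : f = 1 := by
      have h2 : 2 * f ≤ 2 := (two_f_le hp.two_le hf).trans (by rw [← hF, hF2])
      omega
    refine fine_of_nonab fun hna => ?_
    refine Fine.of_lt5 (center_eq_bot hna) (by rw [hpsl]; norm_num) ?_
    intro p' m hp' h11 _ hm _
    rw [hA, hpgl, hf1]
    have h3 : p' ^ 3 ≤ p' ^ m := Nat.pow_le_pow_right (by omega) hm
    refine lt_of_lt_of_le ?_ h3
    obtain ⟨k, rfl⟩ : ∃ k, p' = k + 9 := ⟨p' - 9, by omega⟩
    rw [Nat.add_sub_cancel]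
    nlinarith only [sq_nonneg ((k : ℤ) - 2)]
  · refine fine_of_bd (r := p) (d := (p ^ f) ^ (n - 1) - 2) (a := Nat.gcd n (p ^ f - 1)) hp ?_ ?_ ?_ ?_ ?_
    · rw [hcT]
      exact dvd_card hF (by omega) hp (dvd_pow_self p (by omega))
    · refine Cfsg.Agent.H487.HasSchurMultiplier.congr_left
        (Cfsg.Agent.S2086.result hF n (by omega) (by omega) ?_) e.symm
      simp only [Set.mem_insert_iff, Set.mem_singleton_iff, Prod.mk.injEq, not_or]
      rw [hF] at h34 h42 h32
      refine ⟨by omega, by omega, h32, h34, h42⟩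
    · have h1 : ¬ p ∣ p ^ f - 1 := by
        intro h
        have h4 := (Nat.dvd_sub_iff_right (by omega : 1 ≤ p ^ f) (dvd_pow_self p (by omega))).1 h
        exact hp.one_lt.ne' (Nat.dvd_one.1 h4)
      exact (Nat.Coprime.symm ((Nat.Prime.coprime_iff_not_dvd hp).2 fun h => h1 (h.trans (Nat.gcd_dvd_right _ _))))
    · intro K _ hK
      have h1 := (bd_psl (F := K) hp hK hn hchar).congr e
      rw [hF] at h1
      refine h1.mono ?_
      have h2 : 2 ^ 2 ≤ (p ^ f) ^ (n - 1) := by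
        calc 2 ^ 2 ≤ 2 ^ (n - 1) := Nat.pow_le_pow_right (by norm_num) (by omega)
          _ ≤ _ := Nat.pow_le_pow_left hq2 _
      omega
    · rw [hA]
      have h1 := card_pgl_le hF (show 1 ≤ n by omega)
      have h2 := two_f_le hp.two_le hf
      have h3 := num hn hq2 (by rw [← hF]; exact h32)
      calc 2 * f * Nat.card (ProjGenLinGroup (Fin n) F) ≤ (p ^ f) * (p ^ f) ^ (n ^ 2 - 1) := Nat.mul_le_mul h2 h1
        _ = (p ^ f) ^ (n ^ 2) := by
          rw [← pow_succ']
          congr 1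
          have : 0 < n ^ 2 := by positivity
          omega
        _ ≤ 11 ^ ((p ^ f) ^ (n - 1) - 2) := pow_le_eleven (by omega) (by omega)

end Cfsg.Agent.H454.FinePsl
end

-- part: H831/FineLin
section
/-!
# `Fine` for `PSL_3(4)` (helper831, task 762 for S4881)

`PSL_3(4)` contains `3² : Q₈` acting freely on `3²` (`bd_three`).
-/

set_option autoImplicit false
set_option maxRecDepth 20000

namespace Cfsg.Agent.H831.FineLin

universe u

open Matrix Cfsg.Agent.H698 Cfsg.Agent.H831.FineBase Cfsg.Agent.H831.FineUnit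
open Cfsg.Agent.H674.Explicit Cfsg.Agent.H674.ExplicitCases Cfsg.Agent.H674.TwelvePSU
open Cfsg.Agent.H912.Bd

abbrev M3 := Matrix (Fin 3) (Fin 3) F4
abbrev L3 := Matrix.SpecialLinearGroup (Fin 3) F4
abbrev P3 := Matrix.ProjectiveSpecialLinearGroup (Fin 3) F4
abbrev V := ZMod 3 × ZMod 3

def o : F4 := ⟨0, 0⟩
def i : F4 := ⟨1, 0⟩
def w : F4 := ⟨0, 1⟩
def v : F4 := ⟨1, 1⟩

def X : M3 := !![o, o, i; i, o, o; o, i, o]
def Z : M3 := !![i, o, o; o, w, o; o, o, v]

/-- the matrices of the extraspecial group -/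
def Mx (a : V) : M3 := X ^ a.1.val * Z ^ a.2.val

/-- five elements of the quaternion group -/
def Ms : Fin 5 → M3
  | 0 => !![i, o, o; o, i, o; o, o, i]
  | 1 => !![i, i, i; i, w, v; i, v, w]
  | 2 => !![i, o, o; o, o, i; o, i, o]
  | 3 => !![i, i, i; i, v, w; i, w, v]
  | 4 => !![i, i, v; i, w, w; w, i, w]

/-- their action -/
def al (s : Fin 5) (a : V) : V :=
  match s with
  | 0 => a
  | 1 => (2 * a.2, a.1)
  | 2 => (2 * a.1, 2 * a.2)
  | 3 => (a.2, 2 * a.1)
  | 4 => (a.1 + 2 * a.2, 2 * a.1 + 2 * a.2)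

private def mT (a : V) : M3 :=
  bif Nat.beq a.1.val 0 then
    (bif Nat.beq a.2.val 0 then !![i, o, o; o, i, o; o, o, i] else bif Nat.beq a.2.val 1 then !![i, o, o; o, w, o; o, o, v]
      else !![i, o, o; o, v, o; o, o, w])
  else bif Nat.beq a.1.val 1 then
    (bif Nat.beq a.2.val 0 then !![o, o, i; i, o, o; o, i, o] else bif Nat.beq a.2.val 1 then !![o, o, v; i, o, o; o, w, o]
      else !![o, o, w; i, o, o; o, v, o])
  else
    (bif Nat.beq a.2.val 0 then !![o, i, o; o, o, i; i, o, o] else bif Nat.beq a.2.val 1 then !![o, w, o; o, o, v; i, o, o]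
      else !![o, v, o; o, o, w; i, o, o])

private noncomputable def _root_.Cfsg.Agent.LsF.f7461cd_0 : {f // @Cfsg.Agent.H831.FineLin.X = f} := ⟨_, by first | (delta Cfsg.Agent.H831.FineLin.X; rewrite [Cfsg.Agent.LsF.mof_pat, Cfsg.Agent.LsF.vecCons_eq]; exact rfl) | exact rfl⟩
private noncomputable def _root_.Cfsg.Agent.LsF.f7461cd_1 : {f // @Cfsg.Agent.H831.FineLin.Z = f} := ⟨_, by first | (delta Cfsg.Agent.H831.FineLin.Z; rewrite [Cfsg.Agent.LsF.mof_pat, Cfsg.Agent.LsF.vecCons_eq]; exact rfl) | exact rfl⟩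
private noncomputable def _root_.Cfsg.Agent.LsF.f7461cd_2 : {f // @Cfsg.Agent.H831.FineLin.Mx = f} := ⟨_, by first | (delta Cfsg.Agent.H831.FineLin.Mx; rewrite [Cfsg.Agent.LsF.mpowF_pat, Cfsg.Agent.LsF.mmulF_pat, Cfsg.Agent.LsF.f7461cd_0.2, Cfsg.Agent.LsF.f7461cd_1.2, Cfsg.Agent.LsF.zval_eq, Cfsg.Agent.LsF.instZAdd_pat, Cfsg.Agent.LsF.instZMul_pat, Cfsg.Agent.LsF.zACM_pat]; exact rfl) | exact rfl⟩
private noncomputable def _root_.Cfsg.Agent.LsF.f7461cd_3 : {f // @Cfsg.Agent.H831.FineLin.mT = f} := ⟨_, by first | (delta Cfsg.Agent.H831.FineLin.mT; rewrite [Cfsg.Agent.LsF.mof_pat, Cfsg.Agent.LsF.vecCons_eq, Cfsg.Agent.LsF.zval_eq, Cfsg.Agent.LsF.cond_eq]; exact rfl) | exact rfl⟩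
private theorem Mx_eq : Mx = mT := funext (by (refine of_decide_eq_true ?_; (try (rewrite [Cfsg.Agent.LsF.f7461cd_2.2, Cfsg.Agent.LsF.f7461cd_3.2, Cfsg.Agent.LsF.zdecEq_eq, Cfsg.Agent.LsF.finFintype_eq, Cfsg.Agent.LsF.zFintype_eq, Cfsg.Agent.LsF.prodFintype_eq, Cfsg.Agent.LsF.dForall_eq, Cfsg.Agent.LsF.dMat_eq, Cfsg.Agent.LsF.decide_eq])); decide +kernel))

theorem det_Mx : ∀ a : V, (Mx a).det = 1 := by rw [Mx_eq]; decide +kernel
theorem det_Ms : ∀ s : Fin 5, (Ms s).det = 1 := by decide +kernel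
theorem Mx_mul : ∀ a b : V, ∃ c : F4, Mx a * Mx b = c • Mx (a + b) := by
  have hX : X ^ 3 = 1 := by decide +kernel
  have hZ : Z ^ 3 = 1 := by decide +kernel
  have h0 : Z * X = w • (X * Z) := by decide +kernel
  have h1 : ∀ k : ℕ, Z * X ^ k = w ^ k • (X ^ k * Z) := fun k => by
    induction k with
    | zero => rw [pow_zero, pow_zero, one_smul, mul_one, one_mul]
    | succ k ih =>
      rw [pow_succ, ← mul_assoc, ih, smul_mul_assoc, mul_assoc, h0, mul_smul_comm, smul_smul, ← mul_assoc, ← pow_succ]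
  have h2 : ∀ k j : ℕ, Z ^ j * X ^ k = (w ^ k) ^ j • (X ^ k * Z ^ j) := fun k j => by
    induction j with
    | zero => rw [pow_zero, pow_zero, one_smul, mul_one, one_mul]
    | succ j ih =>
      rw [pow_succ, mul_assoc, h1, mul_smul_comm, ← mul_assoc, ih, smul_mul_assoc, smul_smul, mul_assoc, ← pow_succ']
  intro a b
  refine ⟨(w ^ b.1.val) ^ a.2.val, ?_⟩
  show X ^ a.1.val * Z ^ a.2.val * (X ^ b.1.val * Z ^ b.2.val) = _ • (X ^ (a.1 + b.1).val * Z ^ (a.2 + b.2).val)
  rw [ZMod.val_add, ZMod.val_add, ← pow_eq_pow_mod _ hX, ← pow_eq_pow_mod _ hZ, pow_add, pow_add, mul_assoc,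
    ← mul_assoc (Z ^ a.2.val), h2, smul_mul_assoc, mul_smul_comm]
  simp only [mul_assoc]
theorem Mx_sc : ∀ a : V, (∃ c : F4, Mx a = c • (1 : M3)) → a = 0 := by rw [Mx_eq]; decide +kernel
private noncomputable def _root_.Cfsg.Agent.LsF.f7461cd_4 : {f // @Cfsg.Agent.H831.FineLin.Ms = f} := ⟨_, by first | (delta Cfsg.Agent.H831.FineLin.Ms; rewrite [Cfsg.Agent.LsF.mof_pat, Cfsg.Agent.LsF.vecCons_eq]; (try delta Cfsg.Agent.H831.FineLin.Ms.match_1); (try delta Fin.casesOn Nat.casesOn Nat.le.casesOn); exact rfl) | exact rfl⟩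
private noncomputable def _root_.Cfsg.Agent.LsF.f7461cd_5 : {f // @Cfsg.Agent.H831.FineLin.al = f} := ⟨_, by first | (delta Cfsg.Agent.H831.FineLin.al; rewrite [Cfsg.Agent.LsF.zadd_pat, Cfsg.Agent.LsF.zmul_pat]; (try delta Cfsg.Agent.H831.FineLin.Ms.match_1); (try delta Fin.casesOn Nat.casesOn Nat.le.casesOn); exact rfl) | exact rfl⟩
private noncomputable def _root_.Cfsg.Agent.LsF.f7461cd_6 : {f // @Cfsg.Agent.H674.Explicit.instFintypeQFOfFactPrime = f} := ⟨_, by first | (delta Cfsg.Agent.H674.Explicit.instFintypeQFOfFactPrime; rewrite [Cfsg.Agent.LsF.zFintype_eq, Cfsg.Agent.LsF.prodFintype_eq, Cfsg.Agent.LsF.ofEqv_eq]; exact rfl) | exact rfl⟩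
theorem Ms_conj : ∀ (s : Fin 5) (a : V), ∃ c : F4, Ms s * Mx a = c • (Mx (al s a) * Ms s) := by rw [Mx_eq]; (refine of_decide_eq_true ?_; (try (rewrite [Cfsg.Agent.LsF.mmulF_pat, Cfsg.Agent.LsF.msmul_pat, Cfsg.Agent.LsF.f7461cd_4.2, Cfsg.Agent.LsF.f7461cd_3.2, Cfsg.Agent.LsF.f7461cd_5.2, Cfsg.Agent.LsF.f7461cd_6.2, Cfsg.Agent.LsF.zdecEq_eq, Cfsg.Agent.LsF.finFintype_eq, Cfsg.Agent.LsF.zFintype_eq, Cfsg.Agent.LsF.prodFintype_eq, Cfsg.Agent.LsF.dForall_eq, Cfsg.Agent.LsF.dExists_eq, Cfsg.Agent.LsF.dMat_eq, Cfsg.Agent.LsF.instZAdd_pat, Cfsg.Agent.LsF.instZMul_pat, Cfsg.Agent.LsF.zACM_pat, Cfsg.Agent.LsF.dForallFin_eq, Cfsg.Agent.LsF.decide_eq])); decide +kernel)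
theorem al_free : ∀ s t : Fin 5, s ≠ t → ∀ a : V, al s a = al t a → a = 0 := by decide +kernel

abbrev pr : L3 →* P3 := QuotientGroup.mk' (Subgroup.center L3)

theorem pr_eq {g h : L3} {c : F4} (H : (g : M3) = c • (h : M3)) : pr g = pr h := by
  rw [eq_comm, ← inv_mul_eq_one, ← map_inv, ← map_mul, QuotientGroup.mk'_apply, QuotientGroup.eq_one_iff,
    Subgroup.mem_center_iff]
  intro x
  have h1 : ((h⁻¹ * g : L3) : M3) = c • (1 : M3) := by
    rw [Matrix.SpecialLinearGroup.coe_mul, H, mul_smul_comm, ← Matrix.SpecialLinearGroup.coe_mul, inv_mul_cancel,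
      Matrix.SpecialLinearGroup.coe_one]
  apply Subtype.ext
  change (x : M3) * ((h⁻¹ * g : L3) : M3) = ((h⁻¹ * g : L3) : M3) * (x : M3)
  rw [h1, mul_smul_comm, smul_mul_assoc, mul_one, one_mul]

theorem sc_of_pr {g : L3} (h : pr g = 1) : ∃ c : F4, (g : M3) = c • (1 : M3) := by
  rw [QuotientGroup.mk'_apply, QuotientGroup.eq_one_iff] at h
  obtain ⟨c, -, hc⟩ := Matrix.SpecialLinearGroup.mem_center_iff.1 h
  refine ⟨c, ?_⟩
  rw [← hc, Matrix.scalar_apply, Matrix.smul_one_eq_diagonal]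

def mkL (A : M3) (h : A.det = 1) : L3 := ⟨A, h⟩

/-- the elementary abelian group of order nine -/
def φ : Multiplicative V →* P3 :=
  MonoidHom.mk' (fun a => pr (mkL (Mx a.toAdd) (det_Mx _))) (by
    intro a b
    rw [← map_mul]
    obtain ⟨c, hc⟩ := Mx_mul a.toAdd b.toAdd
    exact (pr_eq (c := c) (by exact hc)).symm)

theorem φ_apply (a : Multiplicative V) : φ a = pr (mkL (Mx a.toAdd) (det_Mx _)) := rfl

theorem φ_injective : Function.Injective φ := by
  rw [injective_iff_map_eq_one]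
  intro a ha
  rw [φ_apply] at ha
  exact congrArg Multiplicative.ofAdd (Mx_sc a.toAdd (sc_of_pr ha))

/-- the elements of the quaternion group -/
def ss (s : Fin 5) : P3 := pr (mkL (Ms s) (det_Ms s))

theorem ss_conj (s : Fin 5) (a : Multiplicative V) : ss s * φ a * (ss s)⁻¹ = φ (Multiplicative.ofAdd (al s a.toAdd)) := by
  rw [mul_inv_eq_iff_eq_mul, ss, φ_apply, φ_apply, ← map_mul, ← map_mul]
  obtain ⟨c, hc⟩ := Ms_conj s a.toAdd
  exact pr_eq (c := c) hc

theorem bd_three {T : Type*} [Group T] (e : P3 ≃* T) {K : Type u} [Field K] (h3 : (3 : K) ≠ 0) : Bd K 3 5 T := by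
  classical
  have key : Bd K 3 5 P3 := by
    have hinj : Function.Injective ss := by
      intro s t hst
      by_contra hne
      have h1 : ∀ a : V, al s a = al t a := by
        intro a
        have h2 := ss_conj s (Multiplicative.ofAdd a)
        rw [hst, ss_conj] at h2
        exact (congrArg Multiplicative.toAdd (φ_injective h2)).symm
      exact absurd (al_free s t hne (1, 0) (h1 _)) (by decide)
    have hfin : Finite φ.range := Finite.of_surjective _ φ.rangeRestrict_surjective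
    have h5 := bd_of_free (F := K) Nat.prime_three (by exact_mod_cast h3) φ.range ?_ ?_ ?_ (Finset.univ.image ss) ?_ ?_
    · rwa [Finset.card_image_of_injective _ hinj, Finset.card_univ, Fintype.card_fin] at h5
    · rintro _ ⟨a, rfl⟩ _ ⟨b, rfl⟩
      rw [← map_mul, ← map_mul, mul_comm]
    · rintro ⟨_, a, rfl⟩
      refine ⟨1, Subtype.ext ?_⟩
      change φ a ^ 3 ^ 1 = 1
      rw [pow_one, ← map_pow]
      have h1 : a ^ 3 = 1 := by
        revert a; decide
      rw [h1, map_one]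
    · intro h
      have h1 : φ (Multiplicative.ofAdd (1, 0)) ∈ φ.range := ⟨_, rfl⟩
      rw [h, Subgroup.mem_bot] at h1
      have h2 := φ_injective (h1.trans (map_one φ).symm)
      exact absurd (congrArg Multiplicative.toAdd h2) (by decide)
    · intro s hs x hx
      obtain ⟨s, -, rfl⟩ := Finset.mem_image.1 hs
      obtain ⟨a, rfl⟩ := hx
      exact ⟨_, (ss_conj s a).symm⟩
    · intro s hs t ht hst x hx h
      obtain ⟨s, -, rfl⟩ := Finset.mem_image.1 hs
      obtain ⟨t, -, rfl⟩ := Finset.mem_image.1 ht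
      obtain ⟨a, rfl⟩ := hx
      rw [ss_conj, ss_conj] at h
      have h1 := congrArg Multiplicative.toAdd (φ_injective h)
      have h2 := al_free s t (fun h => hst (by rw [h])) _ h1
      have h3 : a = 1 := congrArg Multiplicative.ofAdd h2
      rw [h3, map_one]
  exact Bd.congr key e.symm

theorem card_psl34 {F : Type} [Field F] [Fintype F] (hF : Fintype.card F = 4) :
    Nat.card (Matrix.ProjectiveSpecialLinearGroup (Fin 3) F) = 20160 := by
  have h0 := Cfsg.Agent.S0243.result hF 3 (by norm_num)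
  rw [Fin.prod_univ_three] at h0
  norm_num only [_root_.Fin.coe_ofNat_eq_mod, _root_.pow_zero, _root_.Nat.add_one_sub_one, _root_.pow_one] at h0
  omega

theorem fine_l34 {T : Type u} [Group T] [Finite T] {F : Type} [Field F] [Fintype F] (hF : Fintype.card F = 4)
    (e : T ≃* Matrix.ProjectiveSpecialLinearGroup (Fin 3) F) : Cfsg.Agent.H698.Fine.{u, u} T := by
  have : Fact (Nat.Prime 2) := ⟨Nat.prime_two⟩
  have hchar : CharP F 2 := charP_of_card_eq_prime_pow (f := 2) hF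
  have hs' : IsSimpleGroup (Matrix.ProjectiveSpecialLinearGroup (Fin 3) F) := Cfsg.Agent.S0249.result 3 le_rfl
  have hs : IsSimpleGroup T := MulEquiv.isSimpleGroup e
  have hcard : Nat.card T = 20160 := by rw [Nat.card_congr e.toEquiv, card_psl34 hF]
  have haut : Nat.card (MulAut T) = 241920 := by
    rw [Nat.card_congr (autCongr e).toEquiv, Cfsg.Agent.H319.PslFour.card_aut hF, card_psl34 hF]
  have hna : ¬ IsMulCommutative T := not_comm_of_card (by rw [hcard]; norm_num)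
  have hc := center_eq_bot hna
  let ψ : P3 ≃* T := (Cfsg.Agent.LieClassical.FieldTransfer.pslCongr
    (FiniteField.ringEquivOfCardEq (h4.trans (by rw [hF]; norm_num)))).trans e.symm
  refine Fine.of_lt6 hc (by rw [hcard]; norm_num) fun p m hp h11 hpT hm hR => ?_
  rw [haut]
  have h6 : 6 ≤ m := by
    obtain ⟨K, _, _, d, hd2, hdm, hPR⟩ := FineScalar.exists_scalar hna hR
    refine le_trans ?_ hdm
    have hcast : ∀ r : ℕ, r.Prime → r ∣ Nat.card T → (r : K) ≠ 0 := by
      intro r hr hrT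
      rw [Ne, CharP.cast_eq_zero_iff K p, Nat.prime_dvd_prime_iff_eq hp hr]
      rintro rfl
      exact hpT hrT
    by_cases h2 : 2 ∣ d
    · by_cases h3 : 3 ∣ d
      · have h6 : 6 ∣ d := Nat.Coprime.mul_dvd_of_dvd_of_dvd (by norm_num) h2 h3
        exact Nat.le_of_dvd (by (clear * - hd2; omega)) h6
      · have h5 := bd_three ψ (K := K) (by exact_mod_cast hcast 3 Nat.prime_three (by rw [hcard]; norm_num)) d
          (hPR 3 Nat.prime_three h3)
        omega
    · have h5 := Cfsg.Agent.H175.BdSL.bd_psl (F := K) Nat.prime_two hF le_rfl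
        (hcast 2 Nat.prime_two (by rw [hcard]; norm_num)) e d (hPR 2 Nat.prime_two h2)
      norm_num at h5
      omega
  exact numeric (k := 6) (B := 12) (d := 5) (by norm_num) (by omega) (by norm_num) (by decide) h11

end Cfsg.Agent.H831.FineLin
end

-- part: H454/FinePsu
section
/-!
# `Fine` for `PSU_n(q)`, `n ≥ 3` (helper454, S4881)
-/

set_option autoImplicit false

namespace Cfsg.Agent.H454.FinePsu

universe u v

open Cfsg.Agent.H698 Cfsg.Agent.H912.Bd Cfsg.Agent.H454.FineAux Matrix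

/-- the factor of the order of `PSU_n(q)` -/
def fac (q j : ℕ) : ℕ := if Even j then q ^ (j + 1) + 1 else q ^ (j + 1) - 1

theorem pair_le {q : ℕ} (hq : 1 ≤ q) (a : ℕ) : (q ^ a - 1) * (q ^ (a + 1) + 1) ≤ q ^ (a + (a + 1)) := by
  have h0 : 0 < q ^ a := by positivity
  obtain ⟨b, hb⟩ : ∃ b, q ^ a = b + 1 := ⟨q ^ a - 1, by omega⟩
  have h1 : q ^ (a + 1) = (b + 1) * q := by rw [pow_succ, hb]
  have h2 : q ^ (a + (a + 1)) = (b + 1) * ((b + 1) * q) := by rw [pow_add q a (a + 1), h1, hb]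
  rw [h2, h1, hb, Nat.add_sub_cancel]
  nlinarith only [hq]

/-- `∏_{1 ≤ j ≤ 2k} fac q j ≤ q ^ (2 + 3 + ... + (2k + 1))` -/
theorem prod_fac_le {q : ℕ} (hq : 1 ≤ q) (k : ℕ) :
    ∏ j ∈ Finset.range (2 * k), fac q (j + 1) ≤ q ^ (k * (2 * k + 3)) := by
  induction k with
  | zero => simp
  | succ k ih =>
    rw [show 2 * (k + 1) = 2 * k + 1 + 1 by ring, Finset.prod_range_succ, Finset.prod_range_succ]
    have h1 : fac q (2 * k + 1) = q ^ (2 * k + 2) - 1 := by
      unfold fac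
      rw [if_neg (by rw [Nat.not_even_iff_odd]; exact ⟨k, rfl⟩)]
    have h2 : fac q (2 * k + 1 + 1) = q ^ (2 * k + 2 + 1) + 1 := by
      unfold fac
      rw [if_pos ⟨k + 1, by ring⟩]
    rw [h1, h2, mul_assoc]
    calc _ ≤ q ^ (k * (2 * k + 3)) * q ^ ((2 * k + 2) + (2 * k + 2 + 1)) := Nat.mul_le_mul ih (pair_le hq _)
      _ = _ := by rw [← pow_add]; congr 1; ring

theorem prod_fac_le' {q : ℕ} (hq : 1 ≤ q) (n : ℕ) :
    ∃ E, 2 * E = n * (n + 3) ∧ ∏ j ∈ Finset.range n, fac q (j + 1) ≤ q ^ E := by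
  rcases Nat.even_or_odd' n with ⟨k, rfl | rfl⟩
  · exact ⟨k * (2 * k + 3), by ring, prod_fac_le hq k⟩
  · refine ⟨k * (2 * k + 3) + (2 * k + 2), by ring, ?_⟩
    rw [Finset.prod_range_succ, pow_add]
    refine Nat.mul_le_mul (prod_fac_le hq k) ?_
    unfold fac
    rw [if_neg (by rw [Nat.not_even_iff_odd]; exact ⟨k, rfl⟩)]
    exact Nat.sub_le _ _

variable {F : Type*} [Field F] [Fintype F]

theorem card_le {n q : ℕ} (hF : Fintype.card F = q ^ 2) (hn : 2 ≤ n) :
    Nat.gcd n (q + 1) * Nat.card (Cfsg.PSU n F q) ≤ q ^ (n ^ 2 - 1) := by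
  have hq : 1 ≤ q := by
    rcases Nat.eq_zero_or_pos q with h | h
    · rw [h] at hF
      exact absurd hF (by simp)
    · exact h
  have h1 := Cfsg.Agent.S0280.result hF n hn
  obtain ⟨m, rfl⟩ : ∃ m, n = m + 1 := ⟨n - 1, by omega⟩
  obtain ⟨E, hE, hle⟩ := prod_fac_le' hq m
  rw [Finset.prod_range_succ'] at h1
  have h2 : ∏ i ∈ Finset.range m, (if Even (i + 1) then q ^ (i + 1 + 1) + 1 else q ^ (i + 1 + 1) - 1) =
      ∏ j ∈ Finset.range m, fac q (j + 1) := rfl
  rw [h2, if_pos (by decide), zero_add, pow_one] at h1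
  have h3 : (q + 1) * (Nat.gcd (m + 1) (q + 1) * Nat.card (Cfsg.PSU (m + 1) F q)) =
      (q + 1) * (q ^ ((m + 1) * (m + 1 - 1) / 2) * ∏ j ∈ Finset.range m, fac q (j + 1)) := by
    linear_combination h1
  rw [Nat.eq_of_mul_eq_mul_left (by omega) h3]
  calc _ ≤ q ^ ((m + 1) * (m + 1 - 1) / 2) * q ^ E := Nat.mul_le_mul_left _ hle
    _ = q ^ ((m + 1) ^ 2 - 1) := by
      rw [← pow_add]
      congr 1
      have h4 : 2 * ((m + 1) * (m + 1 - 1) / 2) = (m + 1) * m := by
        rw [Nat.add_sub_cancel]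
        exact Nat.mul_div_cancel' (by rw [mul_comm]; exact (Nat.even_mul_succ_self m).two_dvd)
      have h5 : (m + 1) ^ 2 = (m + 1) * m + m + 1 := by ring
      have h6 : m * (m + 3) = (m + 1) * m + 2 * m := by ring
      omega

theorem dvd_card {n q r : ℕ} (hF : Fintype.card F = q ^ 2) (hn : 2 ≤ n) (hr : r.Prime) (hrq : r ∣ q) :
    r ∣ Nat.card (Cfsg.PSU n F q) := by
  have h1 := Cfsg.Agent.S0280.result hF n hn
  have h2 : r ∣ q ^ (n * (n - 1) / 2) := by
    refine hrq.trans (dvd_pow_self q ?_)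
    obtain ⟨m, rfl⟩ : ∃ m, n = m + 2 := ⟨n - 2, by omega⟩
    have : 2 ≤ (m + 2) * (m + 2 - 1) := by
      rw [show m + 2 - 1 = m + 1 by omega]
      nlinarith only []
    omega
  have h3 := h2.mul_right (∏ i ∈ Finset.range n, (if Even i then q ^ (i + 1) + 1 else q ^ (i + 1) - 1))
  rw [← h1] at h3
  have h4 : ¬ r ∣ q + 1 := by
    intro h
    have h4 := (Nat.dvd_add_right hrq).1 h
    exact hr.one_lt.ne' (Nat.dvd_one.1 h4)
  rcases (Nat.Prime.dvd_mul hr).1 h3 with h5 | h5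
  · exact absurd (h5.trans (Nat.gcd_dvd_right _ _)) h4
  rcases (Nat.Prime.dvd_mul hr).1 h5 with h6 | h6
  · exact absurd h6 h4
  · exact h6

/-- the inequality -/
theorem num {n q : ℕ} (hn : 4 ≤ n) (hq : 3 ≤ q) : (q - 1) * n ^ 2 + 3 ≤ 3 * ((q - 1) * q ^ (n - 2)) := by
  obtain ⟨a, rfl⟩ : ∃ a, q = a + 1 := ⟨q - 1, by omega⟩
  rw [Nat.add_sub_cancel]
  have ha : 2 ≤ a := by omega
  induction n, hn using Nat.le_induction with
  | base =>
    norm_num
    nlinarith only [mul_le_mul ha ha (by norm_num) (by omega)]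
  | succ n hn ih =>
    have e : (a + 1) ^ (n + 1 - 2) = (a + 1) * (a + 1) ^ (n - 2) := by
      rw [← pow_succ']; congr 1; omega
    rw [e]
    have h1 : 2 * (3 * (a * (a + 1) ^ (n - 2))) ≤ (a + 1) * (3 * (a * (a + 1) ^ (n - 2))) := Nat.mul_le_mul_right _ (by omega)
    have h2 : (n + 1) ^ 2 ≤ 2 * n ^ 2 := by nlinarith only [hn]
    have h3 : a * (n + 1) ^ 2 ≤ a * (2 * n ^ 2) := Nat.mul_le_mul_left _ h2
    linarith only [ih, h1, h3]

theorem num_two {n : ℕ} (hn : 6 ≤ n) : n ^ 2 + 3 ≤ 3 * 2 ^ (n - 2) := by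
  induction n, hn using Nat.le_induction with
  | base => norm_num
  | succ n hn ih =>
    have e : 2 ^ (n + 1 - 2) = 2 * 2 ^ (n - 2) := by
      rw [← pow_succ']; congr 1; omega
    rw [e]
    nlinarith

/-- `q ^ (n ^ 2) ≤ 11 ^ ((q - 1) q ^ (n - 2) - 1)` -/
theorem num_all {n q : ℕ} (hn : 3 ≤ n) (hq : 2 ≤ q) (h32 : ¬ (n = 3 ∧ q = 2)) (h42 : ¬ (n = 4 ∧ q = 2))
    (h52 : ¬ (n = 5 ∧ q = 2)) : q ^ (n ^ 2) ≤ 11 ^ ((q - 1) * q ^ (n - 2) - 1) := by
  rcases (by (solve | lia | omega) : (n = 3 ∧ q = 3) ∨ (n = 3 ∧ 4 ≤ q) ∨ (4 ≤ n ∧ 3 ≤ q) ∨ (6 ≤ n ∧ q = 2)) with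
    ⟨rfl, rfl⟩ | ⟨rfl, h⟩ | ⟨h1, h2⟩ | ⟨h1, rfl⟩
  · norm_num
  · apply pow_le_eleven (by omega)
    obtain ⟨a, rfl⟩ : ∃ a, q = a + 4 := ⟨q - 4, by omega⟩
    have h1 : (a + 4 - 1) * (a + 4) ^ (3 - 2) = (a + 3) * (a + 4) := by
      rw [show 3 - 2 = 1 by norm_num, pow_one]; congr 1
    rw [h1]
    have h2 : (a + 3) * (a + 4) = a * a + 7 * a + 12 := by ring
    rw [h2, show a + 4 - 1 = a + 3 by omega]
    have h3 : 3 * (a * a + 7 * a + 12 - 1) = 3 * (a * a) + 21 * a + 33 := by omega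
    rw [h3]
    have := Nat.zero_le (a * a)
    (clear * -; omega)
  · apply pow_le_eleven (by omega)
    have := num h1 h2
    omega
  · apply pow_le_eleven (by omega)
    have := num_two h1
    omega

/-- **`PSU_n(q)`, `n ≥ 3`**. -/
theorem fine_psu {T : Type u} [Group T] [Finite T] {F : Type} [Field F] [Fintype F] {n q : ℕ} (hF : Fintype.card F = q ^ 2)
    (hn : 3 ≤ n) (h32 : ¬ (n = 3 ∧ q = 2)) (h42 : ¬ (n = 4 ∧ q = 2)) (h43 : ¬ (n = 4 ∧ q = 3)) (h62 : ¬ (n = 6 ∧ q = 2))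
    (e : T ≃* Cfsg.PSU n F q) : Cfsg.Agent.H698.Fine.{u, u} T := by
  obtain ⟨p, hchar⟩ := CharP.exists F
  obtain ⟨k, hp, hk⟩ := FiniteField.card F p
  have hpf : Fact p.Prime := ⟨hp⟩
  obtain ⟨f, -, hq⟩ : ∃ f ≤ (k : ℕ), q = p ^ f := (Nat.dvd_prime_pow hp).1 (by rw [← hk, hF]; exact dvd_pow_self q two_ne_zero)
  have hf : 1 ≤ f := by
    rcases Nat.eq_zero_or_pos f with h | h
    · rw [h, pow_zero] at hq
      rw [hq, one_pow] at hF
      exact absurd (Fintype.one_lt_card (α := F)) (by omega)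
    · exact h
  have hpq : p ∣ q := by rw [hq]; exact dvd_pow_self p (by omega)
  have hq2 : 2 ≤ q := by
    rw [hq]
    exact (two_f_le hp.two_le hf).trans' (by omega)
  have hs : IsSimpleGroup (Cfsg.PSU n F q) := Cfsg.Agent.S0283.result hF n hn h32
  have hnt : Nontrivial T := e.toEquiv.nontrivial
  have hsT : IsSimpleGroup T := IsSimpleGroup.isSimpleGroup_of_surjective e.symm.toMonoidHom e.symm.surjective
  have hcT : Nat.card T = Nat.card (Cfsg.PSU n F q) := Nat.card_congr e.toEquiv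
  have hA : Nat.card (MulAut T) = (2 * f) * (Nat.gcd n (q + 1) * Nat.card (Cfsg.PSU n F q)) := by
    rw [card_mulAut_congr e, Cfsg.Agent.S0815.result p f hf hq hF n (by omega) (by omega)]
    ring
  have hle := card_le hF (show 2 ≤ n by omega)
  have hM : Cfsg.HasCyclicSchurMultiplier T (Nat.gcd n (q + 1)) := by
    refine Cfsg.Agent.H487.HasSchurMultiplier.congr_left (Cfsg.Agent.S2089.result n q hF hn h32 ?_) e.symm
    simp only [Set.mem_insert_iff, Set.mem_singleton_iff, Prod.mk.injEq, not_or]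
    exact ⟨h42, h43, h62⟩
  have hcop : (Nat.gcd n (q + 1)).Coprime p := by
    refine (Nat.Coprime.symm ((Nat.Prime.coprime_iff_not_dvd hp).2 fun h => ?_))
    have h4 := (Nat.dvd_add_right hpq).1 (h.trans (Nat.gcd_dvd_right _ _))
    exact hp.one_lt.ne' (Nat.dvd_one.1 h4)
  have hrT : p ∣ Nat.card T := by
    rw [hcT]
    exact dvd_card hF (by omega) hp hpq
  have hB : ∀ (K : Type u) [Field K], (p : K) ≠ 0 → Bd K p ((q - 1) * q ^ (n - 2)) T := fun K _ hK =>
    Cfsg.Agent.H175.BdSU.bd_psu hp hF hn hK e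
  have hpos : 1 ≤ (q - 1) * q ^ (n - 2) := Nat.mul_pos (by omega) (by positivity)
  by_cases h52 : n = 5 ∧ q = 2
  · obtain ⟨rfl, rfl⟩ := h52
    have hp2 : p = 2 := (Nat.prime_dvd_prime_iff_eq hp Nat.prime_two).1 hpq
    have hf1 : f = 1 := by
      rw [hp2] at hq
      exact (Nat.pow_right_injective le_rfl (by simpa using hq)).symm
    have hc : Nat.card (Cfsg.PSU 5 F 2) = 13685760 := by
      have h1 := Cfsg.Agent.S0280.result hF 5 (by norm_num)
      simp only [Finset.prod_range_succ, show ¬ Even 1 by decide, show Even 2 by decide, show ¬ Even 3 by decide,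
        show Even 4 by decide, _root_.Nat.reduceAdd, _root_.Nat.reduceGcd, _root_.one_mul, _root_.Nat.add_one_sub_one, _root_.Nat.reduceMul, _root_.Nat.reduceDiv, _root_.Nat.reducePow, _root_.Finset.range_one, _root_.Finset.prod_singleton, _root_.Even.zero, ↓ _root_.reduceIte, _root_.zero_add, _root_.pow_one] at h1
      omega
    refine fine_of_nonab fun hna => ?_
    refine Fine.of_lt (center_eq_bot hna) (by rw [hcT, hc]; norm_num) ?_
    intro p' m hp' h11 hpT _ hR
    have h8 : 8 ≤ m := by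
      have h1 := hR.le_of_Bd hp' hp hrT hpT hM (by
        rw [show Nat.card (Multiplicative (ZMod (Nat.gcd 5 (2 + 1)))) = Nat.gcd 5 (2 + 1) by
          rw [Nat.card_congr Multiplicative.toAdd, Nat.card_zmod]]
        exact hcop) hB
      norm_num at h1
      exact h1
    have h13 : 13 ≤ p' := by
      by_contra hlt
      rcases (by omega : p' = 11 ∨ p' = 12) with rfl | rfl
      · exact hpT (by rw [hcT, hc]; norm_num)
      · exact absurd hp' (by norm_num)
    rw [hA, hc, hf1]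
    norm_num
    have h2 : 13 ^ 7 ≤ p' ^ 7 := Nat.pow_le_pow_left h13 7
    have h3 : p' ^ 8 ≤ p' ^ m := Nat.pow_le_pow_right (by omega) h8
    have h4 : (p' - 3) * 27371520 ≤ (p' - 3) * p' ^ 7 := Nat.mul_le_mul_left _ (by norm_num at h2; omega)
    have h5 : (p' - 3) * p' ^ 7 + 3 * p' ^ 7 = p' ^ 8 := by
      rw [← add_mul, pow_succ p' 7, mul_comm (p' ^ 7)]
      congr 1
      omega
    norm_num at h2
    omega
  · refine fine_of_bd (r := p) (d := (q - 1) * q ^ (n - 2) - 1) hp hrT hM hcop ?_ ?_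
    · intro K _ hK
      rw [Nat.sub_add_cancel hpos]
      exact hB K hK
    · rw [hA]
      have h2 : 2 * f ≤ q := by rw [hq]; exact two_f_le hp.two_le hf
      calc _ ≤ q * q ^ (n ^ 2 - 1) := Nat.mul_le_mul h2 hle
        _ = q ^ (n ^ 2) := by
          rw [← pow_succ']
          congr 1
          have : 0 < n ^ 2 := by positivity
          omega
        _ ≤ _ := num_all hn hq2 h32 h42 h52

end Cfsg.Agent.H454.FinePsu
end

-- part: H831/FineUSix
section
/-!
# `Fine` for `PSU_4(3)` and `PSU_6(2)` (helper831, task 764 for S4881)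
-/

set_option autoImplicit false

namespace Cfsg.Agent.H831.FineUSix

universe u

open Cfsg.Agent.H698 Cfsg.Agent.H831.FineBase Cfsg.Agent.H831.FineUnit
open Cfsg.Agent.H674.SUBlock Cfsg.Agent.H674.Explicit Cfsg.Agent.H674.ExplicitCases Cfsg.Agent.H674.TwelvePSU
open Cfsg.Agent.LieClassical Cfsg.Agent.H92

section

variable {F : Type} [Field F] [Fintype F]

theorem card_psu62 (hF : Fintype.card F = 2 ^ 2) : Nat.card (Cfsg.PSU 6 F 2) = 9196830720 := by
  have h0 := Cfsg.Agent.S0280.result hF 6 (by norm_num)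
  have h1 : 9 * Nat.card (Cfsg.PSU 6 F 2) = 9 * 9196830720 := by
    rw [show (Nat.gcd 6 (2 + 1) : ℕ) = 3 by norm_num] at h0
    have h2 : 3 * ((2 + 1) * Nat.card (Cfsg.PSU 6 F 2)) = 9 * Nat.card (Cfsg.PSU 6 F 2) := by ring
    rw [← h2, h0]
    decide
  omega

theorem card_psu52 (hF : Fintype.card F = 2 ^ 2) : Nat.card (Cfsg.PSU 5 F 2) = 13685760 := by
  have h0 := Cfsg.Agent.S0280.result hF 5 (by norm_num)
  have h1 : 3 * Nat.card (Cfsg.PSU 5 F 2) = 3 * 13685760 := by
    rw [show (Nat.gcd 5 (2 + 1) : ℕ) = 1 by norm_num] at h0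
    have h2 : 1 * ((2 + 1) * Nat.card (Cfsg.PSU 5 F 2)) = 3 * Nat.card (Cfsg.PSU 5 F 2) := by ring
    rw [← h2, h0]
    decide
  omega

theorem card_psu43 (hF : Fintype.card F = 3 ^ 2) : Nat.card (Cfsg.PSU 4 F 3) = 3265920 := by
  have h0 := Cfsg.Agent.S0280.result hF 4 (by norm_num)
  have h1 : 16 * Nat.card (Cfsg.PSU 4 F 3) = 16 * 3265920 := by
    rw [show (Nat.gcd 4 (3 + 1) : ℕ) = 4 by norm_num] at h0
    have h2 : 4 * ((3 + 1) * Nat.card (Cfsg.PSU 4 F 3)) = 16 * Nat.card (Cfsg.PSU 4 F 3) := by ring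
    rw [← h2, h0]
    decide
  omega

theorem card_psu33 (hF : Fintype.card F = 3 ^ 2) : Nat.card (Cfsg.PSU 3 F 3) = 6048 := by
  have h0 := Cfsg.Agent.S0280.result hF 3 (by norm_num)
  have h1 : 4 * Nat.card (Cfsg.PSU 3 F 3) = 4 * 6048 := by
    rw [show (Nat.gcd 3 (3 + 1) : ℕ) = 1 by norm_num] at h0
    have h2 : 1 * ((3 + 1) * Nat.card (Cfsg.PSU 3 F 3)) = 4 * Nat.card (Cfsg.PSU 3 F 3) := by ring
    rw [← h2, h0]
    decide
  omega

theorem card_aut_psu62 (hF : Fintype.card F = 2 ^ 2) : Nat.card (MulAut (Cfsg.PSU 6 F 2)) = 55180984320 := by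
  have : Fact (Nat.Prime 2) := ⟨Nat.prime_two⟩
  rw [Cfsg.Agent.S0815.result 2 1 le_rfl (q := 2) (by norm_num) hF 6 (by norm_num) (by norm_num), card_psu62 hF]
  norm_num

theorem card_aut_psu43 (hF : Fintype.card F = 3 ^ 2) : Nat.card (MulAut (Cfsg.PSU 4 F 3)) = 26127360 := by
  have : Fact (Nat.Prime 3) := ⟨Nat.prime_three⟩
  rw [Cfsg.Agent.S0815.result 3 1 le_rfl (q := 3) (by norm_num) hF 4 (by norm_num) (by norm_num), card_psu43 hF]
  norm_num

end

theorem fine_u62 {T : Type u} [Group T] [Finite T] {F : Type} [Field F] [Fintype F] (hF : Fintype.card F = 2 ^ 2)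
    (e : T ≃* Cfsg.PSU 6 F 2) : Fine.{u, u} T := by
  have : Fact (Nat.Prime 2) := ⟨Nat.prime_two⟩
  have hchar : CharP F 2 := charP_of_card_eq_prime_pow (f := 2) hF
  have hs' : IsSimpleGroup (Cfsg.PSU 6 F 2) := Cfsg.Agent.S0283.result hF 6 (by norm_num) (by norm_num)
  have hs : IsSimpleGroup T := MulEquiv.isSimpleGroup e
  have hcard : Nat.card T = 9196830720 := by rw [Nat.card_congr e.toEquiv, card_psu62 hF]
  have haut : Nat.card (MulAut T) = 55180984320 := by
    rw [Nat.card_congr (autCongr e).toEquiv, card_aut_psu62 hF]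
  have hna : ¬ IsMulCommutative T := not_comm_of_card (by rw [hcard]; norm_num)
  have hc := center_eq_bot hna
  let ψ : Cfsg.PSU 6 F4 2 ≃* T :=
    (FieldTransfer.psuCongr 6 2 (FiniteField.ringEquivOfCardEq (h4.trans hF.symm))).trans e.symm
  refine Fine.of_classes (k := 12) (fun X hX => ?_) fun p m hp h11 hpT hm hR => ?_
  · refine le_trans (by decide) (orders_le hc {1, 2, 3, 4, 5, 6, 8, 9, 11, 12, 15, 18} (fun n hn => ?_) hX)
    obtain ⟨g, hg⟩ := (ord52' n hn).of_injective _ (pr_ext_injective (d := 5) (k := 1) h4 (by norm_num) (by norm_num))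
    exact ⟨ψ g, by rw [MulEquiv.orderOf_eq, hg]⟩
  · rw [haut]
    have h1 := le_of_sub (n := 5) (k := 1) (r := 2) Nat.prime_two hF (by norm_num) (by norm_num) (by norm_num)
      (by norm_num) (by simp) (by rw [card_psu52 hF]; norm_num) (by rw [card_psu52 hF]; norm_num) e hp hpT hR
    exact numeric (B := 35) (d := 7) (by norm_num) (by omega) (by norm_num) (by decide) h11

/-! ### `PSU_4(3)` -/

def M8 : Matrix (Fin 4) (Fin 4) F9 := !![⟨1, 1⟩, ⟨0, 0⟩, ⟨2, 1⟩, ⟨0, 0⟩; ⟨0, 0⟩, ⟨0, 0⟩, ⟨0, 0⟩, ⟨2, 0⟩; ⟨0, 0⟩, ⟨2, 0⟩, ⟨0, 0⟩, ⟨0, 0⟩; ⟨1, 1⟩, ⟨0, 0⟩, ⟨1, 2⟩, ⟨0, 0⟩]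
def M9 : Matrix (Fin 4) (Fin 4) F9 := !![⟨0, 0⟩, ⟨2, 2⟩, ⟨0, 2⟩, ⟨1, 0⟩; ⟨0, 0⟩, ⟨0, 0⟩, ⟨2, 2⟩, ⟨2, 1⟩; ⟨0, 0⟩, ⟨2, 2⟩, ⟨0, 1⟩, ⟨2, 0⟩; ⟨0, 1⟩, ⟨0, 0⟩, ⟨0, 0⟩, ⟨0, 0⟩]
def M12 : Matrix (Fin 4) (Fin 4) F9 := !![⟨0, 0⟩, ⟨0, 0⟩, ⟨2, 0⟩, ⟨0, 0⟩; ⟨2, 2⟩, ⟨2, 2⟩, ⟨0, 0⟩, ⟨0, 0⟩; ⟨1, 1⟩, ⟨2, 2⟩, ⟨0, 0⟩, ⟨0, 0⟩; ⟨0, 0⟩, ⟨0, 0⟩, ⟨0, 0⟩, ⟨0, 1⟩]

private noncomputable def _root_.Cfsg.Agent.LsF.f7461cd_7 : {f // @Cfsg.Agent.H674.Explicit.good = f} := ⟨_, by first | (delta Cfsg.Agent.H674.Explicit.good; rewrite [Cfsg.Agent.LsF.finFintype_eq, Cfsg.Agent.LsF.dMat_eq, Cfsg.Agent.LsF.instMHMul_eq, Cfsg.Agent.LsF.transpose_eq, Cfsg.Agent.LsF.instMOne_eq, Cfsg.Agent.LsF.mmap_eq, Cfsg.Agent.LsF.and_eq, Cfsg.Agent.LsF.dFinEq_eq, Cfsg.Agent.LsF.decide_eq]; exact rfl) | exact rfl⟩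
private noncomputable def _root_.Cfsg.Agent.LsF.f7461cd_8 : {f // @Cfsg.Agent.H831.FineUSix.M8 = f} := ⟨_, by first | (delta Cfsg.Agent.H831.FineUSix.M8; rewrite [Cfsg.Agent.LsF.mof_pat, Cfsg.Agent.LsF.vecCons_eq]; exact rfl) | exact rfl⟩
private noncomputable def _root_.Cfsg.Agent.LsF.f7461cd_9 : {f // @Cfsg.Agent.H831.FineUSix.M9 = f} := ⟨_, by first | (delta Cfsg.Agent.H831.FineUSix.M9; rewrite [Cfsg.Agent.LsF.mof_pat, Cfsg.Agent.LsF.vecCons_eq]; exact rfl) | exact rfl⟩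
private noncomputable def _root_.Cfsg.Agent.LsF.f7461cd_10 : {f // @Cfsg.Agent.H831.FineUSix.M12 = f} := ⟨_, by first | (delta Cfsg.Agent.H831.FineUSix.M12; rewrite [Cfsg.Agent.LsF.mof_pat, Cfsg.Agent.LsF.vecCons_eq]; exact rfl) | exact rfl⟩
theorem good_M : good 3 M8 = true ∧ good 3 M9 = true ∧ good 3 M12 = true := by (refine of_decide_eq_true ?_; (try (rewrite [Cfsg.Agent.LsF.f7461cd_7.2, Cfsg.Agent.LsF.f7461cd_8.2, Cfsg.Agent.LsF.f7461cd_9.2, Cfsg.Agent.LsF.f7461cd_10.2, Cfsg.Agent.LsF.zdecEq_eq, Cfsg.Agent.LsF.dAnd_eq, Cfsg.Agent.LsF.dBoolEq_eq, Cfsg.Agent.LsF.decide_eq])); decide +kernel)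
theorem sc_M : isSc (M8 ^ 8) = true ∧ isSc (M9 ^ 9) = true ∧ isSc (M12 ^ 12) = true := by decide +kernel
theorem nsc_M8 : ∀ k < 8, 0 < k → isSc (M8 ^ k) = false := by decide +kernel
theorem nsc_M9 : ∀ k < 9, 0 < k → isSc (M9 ^ k) = false := by decide +kernel
private noncomputable def _root_.Cfsg.Agent.LsF.f7461cd_11 : {f // @Cfsg.Agent.H674.Explicit.isSc = f} := ⟨_, by first | (delta Cfsg.Agent.H674.Explicit.isSc; rewrite [Cfsg.Agent.LsF.finFintype_eq, Cfsg.Agent.LsF.dMat_eq, Cfsg.Agent.LsF.instMOne_eq, Cfsg.Agent.LsF.dFinEq_eq, Cfsg.Agent.LsF.decide_eq]; exact rfl) | exact rfl⟩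
theorem nsc_M12 : ∀ k < 12, 0 < k → isSc (M12 ^ k) = false := by (refine of_decide_eq_true ?_; (try (rewrite [Cfsg.Agent.LsF.mpowF_pat, Cfsg.Agent.LsF.f7461cd_11.2, Cfsg.Agent.LsF.f7461cd_10.2, Cfsg.Agent.LsF.zdecEq_eq, Cfsg.Agent.LsF.decLt_eq, Cfsg.Agent.LsF.dBoolEq_eq, Cfsg.Agent.LsF.dBallLT_eq, Cfsg.Agent.LsF.dAllP_eq, Cfsg.Agent.LsF.decide_eq])); decide +kernel)

theorem ord43 : ∀ n ∈ ({1, 2, 3, 4, 5, 6, 7, 8, 9, 12} : Finset ℕ), KTools.HasOrd (Cfsg.PSU 4 F9 3) n := by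
  have h8 : KTools.HasOrd (Cfsg.PSU 4 F9 3) 8 := exists_ord h9 (by norm_num) good_M.1 (by norm_num) sc_M.1 nsc_M8
  have h9' : KTools.HasOrd (Cfsg.PSU 4 F9 3) 9 :=
    exists_ord h9 (by norm_num) good_M.2.1 (by norm_num) sc_M.2.1 nsc_M9
  have h12 : KTools.HasOrd (Cfsg.PSU 4 F9 3) 12 :=
    exists_ord h9 (by norm_num) good_M.2.2 (by norm_num) sc_M.2.2 nsc_M12
  intro n hn
  simp only [Finset.mem_insert, Finset.mem_singleton] at hn
  rcases hn with rfl | rfl | rfl | rfl | rfl | rfl | rfl | rfl | rfl | rfl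
  · exact KTools.hasOrd_one _
  · exact h8.of_dvd (by norm_num) (by norm_num)
  · exact h12.of_dvd (by norm_num) (by norm_num)
  · exact h8.of_dvd (by norm_num) (by norm_num)
  · exact KTools.hasOrd_prime (by norm_num) (by rw [card_psu43 h9]; norm_num)
  · exact h12.of_dvd (by norm_num) (by norm_num)
  · exact KTools.hasOrd_prime (by norm_num) (by rw [card_psu43 h9]; norm_num)
  · exact h8
  · exact h9'
  · exact h12

theorem fine_u43 {T : Type u} [Group T] [Finite T] {F : Type} [Field F] [Fintype F] (hF : Fintype.card F = 3 ^ 2)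
    (e : T ≃* Cfsg.PSU 4 F 3) : Fine.{u, u} T := by
  have : Fact (Nat.Prime 3) := ⟨Nat.prime_three⟩
  have hchar : CharP F 3 := charP_of_card_eq_prime_pow (f := 2) hF
  have hs' : IsSimpleGroup (Cfsg.PSU 4 F 3) := Cfsg.Agent.S0283.result hF 4 (by norm_num) (by norm_num)
  have hs : IsSimpleGroup T := MulEquiv.isSimpleGroup e
  have hcard : Nat.card T = 3265920 := by rw [Nat.card_congr e.toEquiv, card_psu43 hF]
  have haut : Nat.card (MulAut T) = 26127360 := by
    rw [Nat.card_congr (autCongr e).toEquiv, card_aut_psu43 hF]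
  have hna : ¬ IsMulCommutative T := not_comm_of_card (by rw [hcard]; norm_num)
  have hc := center_eq_bot hna
  let ψ : Cfsg.PSU 4 F9 3 ≃* T :=
    (FieldTransfer.psuCongr 4 3 (FiniteField.ringEquivOfCardEq (h9.trans hF.symm))).trans e.symm
  refine Fine.of_classes (k := 10) (fun X hX => ?_) fun p m hp h11 hpT hm hR => ?_
  · refine le_trans (by decide) (orders_le hc {1, 2, 3, 4, 5, 6, 7, 8, 9, 12} (fun n hn => ?_) hX)
    obtain ⟨g, hg⟩ := ord43 n hn
    exact ⟨ψ g, by rw [MulEquiv.orderOf_eq, hg]⟩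
  · rw [haut]
    have h1 := le_of_sub (n := 3) (k := 1) (r := 3) Nat.prime_three hF (by norm_num) (by norm_num) (by norm_num)
      (by norm_num) (by simp) (by rw [card_psu33 hF]; norm_num) (by rw [card_psu33 hF]; norm_num) e hp hpT hR
    exact numeric (B := 31) (d := 5) (by norm_num) (by omega) (by norm_num) (by decide) h11

end Cfsg.Agent.H831.FineUSix
end

-- part: H831/FinePsp
section
/-!
# `Fine` for `PSp_4(3)`, i.e. `PSU_4(2)` (helper831, task 766 for S4881)
-/

set_option autoImplicit false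

namespace Cfsg.Agent.H831.FinePsp

universe u

open Cfsg.Agent.H698 Cfsg.Agent.H831.FineBase Cfsg.Agent.H831.FineUnit
open Cfsg.Agent.H674.SUBlock Cfsg.Agent.H674.Explicit Cfsg.Agent.H674.ExplicitCases Cfsg.Agent.H674.TwelvePSU
open Cfsg.Agent.LieClassical Cfsg.Agent.H92

theorem card_psu42 {F : Type} [Field F] [Fintype F] (hF : Fintype.card F = 2 ^ 2) :
    Nat.card (Cfsg.PSU 4 F 2) = 25920 := by
  have h0 := Cfsg.Agent.S0280.result hF 4 (by norm_num)
  have h1 : 3 * Nat.card (Cfsg.PSU 4 F 2) = 3 * 25920 := by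
    rw [show (Nat.gcd 4 (2 + 1) : ℕ) = 1 by norm_num] at h0
    have h2 : 1 * ((2 + 1) * Nat.card (Cfsg.PSU 4 F 2)) = 3 * Nat.card (Cfsg.PSU 4 F 2) := by ring
    rw [← h2, h0]
    decide
  omega

theorem card_aut_psu42 {F : Type} [Field F] [Fintype F] (hF : Fintype.card F = 2 ^ 2) :
    Nat.card (MulAut (Cfsg.PSU 4 F 2)) = 51840 := by
  have : Fact (Nat.Prime 2) := ⟨Nat.prime_two⟩
  rw [Cfsg.Agent.S0815.result 2 1 le_rfl (q := 2) (by norm_num) hF 4 (by norm_num) (by norm_num), card_psu42 hF]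
  norm_num

/-! ### elements -/

def M9 : Matrix (Fin 4) (Fin 4) F4 :=
  !![⟨0, 0⟩, ⟨0, 0⟩, ⟨0, 1⟩, ⟨0, 0⟩; ⟨1, 0⟩, ⟨0, 0⟩, ⟨0, 0⟩, ⟨0, 0⟩; ⟨0, 0⟩, ⟨1, 0⟩, ⟨0, 0⟩, ⟨0, 0⟩;
     ⟨0, 0⟩, ⟨0, 0⟩, ⟨0, 0⟩, ⟨1, 1⟩]

def M12 : Matrix (Fin 4) (Fin 4) F4 :=
  !![⟨0, 1⟩, ⟨0, 1⟩, ⟨0, 1⟩, ⟨0, 0⟩; ⟨0, 1⟩, ⟨1, 1⟩, ⟨1, 0⟩, ⟨0, 0⟩; ⟨0, 1⟩, ⟨1, 0⟩, ⟨1, 1⟩, ⟨0, 0⟩;
     ⟨0, 0⟩, ⟨0, 0⟩, ⟨0, 0⟩, ⟨1, 0⟩]

theorem good_M : good 2 M9 = true ∧ good 2 M12 = true := by decide +kernel
private noncomputable def _root_.Cfsg.Agent.LsF.f7461cd_12 : {f // @Cfsg.Agent.H831.FinePsp.M9 = f} := ⟨_, by first | (delta Cfsg.Agent.H831.FinePsp.M9; rewrite [Cfsg.Agent.LsF.mof_pat, Cfsg.Agent.LsF.vecCons_eq]; exact rfl) | exact rfl⟩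
private noncomputable def _root_.Cfsg.Agent.LsF.f7461cd_13 : {f // @Cfsg.Agent.H831.FinePsp.M12 = f} := ⟨_, by first | (delta Cfsg.Agent.H831.FinePsp.M12; rewrite [Cfsg.Agent.LsF.mof_pat, Cfsg.Agent.LsF.vecCons_eq]; exact rfl) | exact rfl⟩
theorem sc_M : isSc (M9 ^ 9) = true ∧ isSc (M12 ^ 12) = true := by (refine of_decide_eq_true ?_; (try (rewrite [Cfsg.Agent.LsF.mpowF_pat, Cfsg.Agent.LsF.f7461cd_11.2, Cfsg.Agent.LsF.f7461cd_12.2, Cfsg.Agent.LsF.f7461cd_13.2, Cfsg.Agent.LsF.zdecEq_eq, Cfsg.Agent.LsF.dAnd_eq, Cfsg.Agent.LsF.dBoolEq_eq, Cfsg.Agent.LsF.decide_eq])); decide +kernel)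
theorem nsc_M9 : ∀ k < 9, 0 < k → isSc (M9 ^ k) = false := by (refine of_decide_eq_true ?_; (try (rewrite [Cfsg.Agent.LsF.mpowF_pat, Cfsg.Agent.LsF.f7461cd_11.2, Cfsg.Agent.LsF.f7461cd_12.2, Cfsg.Agent.LsF.zdecEq_eq, Cfsg.Agent.LsF.decLt_eq, Cfsg.Agent.LsF.dBoolEq_eq, Cfsg.Agent.LsF.dBallLT_eq, Cfsg.Agent.LsF.dAllP_eq, Cfsg.Agent.LsF.decide_eq])); decide +kernel)
theorem nsc_M12 : ∀ k < 12, 0 < k → isSc (M12 ^ k) = false := by (refine of_decide_eq_true ?_; (try (rewrite [Cfsg.Agent.LsF.mpowF_pat, Cfsg.Agent.LsF.f7461cd_11.2, Cfsg.Agent.LsF.f7461cd_13.2, Cfsg.Agent.LsF.zdecEq_eq, Cfsg.Agent.LsF.decLt_eq, Cfsg.Agent.LsF.dBoolEq_eq, Cfsg.Agent.LsF.dBallLT_eq, Cfsg.Agent.LsF.dAllP_eq, Cfsg.Agent.LsF.decide_eq])); decide +kernel)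

theorem ord42 : ∀ n ∈ ({1, 2, 3, 4, 5, 6, 9, 12} : Finset ℕ), KTools.HasOrd (Cfsg.PSU 4 F4 2) n := by
  have h9' : KTools.HasOrd (Cfsg.PSU 4 F4 2) 9 := exists_ord h4 (by norm_num) good_M.1 (by norm_num) sc_M.1 nsc_M9
  have h12 : KTools.HasOrd (Cfsg.PSU 4 F4 2) 12 := exists_ord h4 (by norm_num) good_M.2 (by norm_num) sc_M.2 nsc_M12
  intro n hn
  simp only [Finset.mem_insert, Finset.mem_singleton] at hn
  rcases hn with rfl | rfl | rfl | rfl | rfl | rfl | rfl | rfl
  · exact KTools.hasOrd_one _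
  · exact h12.of_dvd (by norm_num) (by norm_num)
  · exact h12.of_dvd (by norm_num) (by norm_num)
  · exact h12.of_dvd (by norm_num) (by norm_num)
  · exact KTools.hasOrd_prime (by norm_num) (by rw [card_psu42 h4]; norm_num)
  · exact h12.of_dvd (by norm_num) (by norm_num)
  · exact h9'
  · exact h12

/-- the final inequality -/
theorem conclude {p m k z A c x : ℕ} (hp : p.Prime) (h11 : 11 ≤ p) (hk : k ≤ c) (hx : x ≤ A)
    (h1 : (p + 1 - 2 * k) * A + 1 < p ^ m) (hz : p ^ m ≤ 2 * z * x + 1) : p + 3 ≤ 2 * (z + c) := by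
  have hodd : p % 2 = 1 := by
    rcases hp.eq_two_or_odd with h3 | h3
    · omega
    · exact h3
  have h4 : (p + 1 - 2 * k) * x ≤ (p + 1 - 2 * k) * A := Nat.mul_le_mul_left _ hx
  have h5 : (p + 1 - 2 * k) * x < 2 * z * x := by omega
  have h6 : p + 1 - 2 * k < 2 * z := Nat.lt_of_mul_lt_mul_right h5
  omega

/-- **Two more classes outside.** -/
theorem add_two_le {T : Type u} [Group T] [Finite T] (hc : Subgroup.center T = ⊥) (L : Finset ℕ)
    (hL : ∀ n ∈ L, ∃ t : T, orderOf t = n) {X : Subgroup (MulAut T)}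
    (hX : (MulAut.conj : T →* MulAut T).range ≤ X) (h4 : 4 ∣ Nat.card X)
    (h2 : Nat.card X = 2 * Nat.card (MulAut.conj : T →* MulAut T).range) :
    L.card + 2 ≤ Nat.card (ConjClasses X) := by
  classical
  obtain ⟨s, hs, hin, h⟩ := exists_inner hc L hL hX
  let N : Subgroup X := ((MulAut.conj : T →* MulAut T).range).subgroupOf X
  have hNc : Nat.card N = Nat.card (MulAut.conj : T →* MulAut T).range :=
    Nat.card_congr (Subgroup.subgroupOfEquivOfLe hX).toEquiv
  have hN : N.index = 2 := by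
    have h3 := N.card_mul_index
    rw [hNc, h2, mul_comm] at h3
    exact Nat.eq_of_mul_eq_mul_right Nat.card_pos h3
  obtain ⟨a, b, ha, hb, hab⟩ := exists_outer h4 hN
  have hn : N.Normal := Subgroup.normal_of_index_eq_two hN
  have hmem : ∀ x ∈ s, x ∈ N := fun x hx => Subgroup.mem_subgroupOf.2 (hin x hx)
  have hnc : ∀ x ∈ N, ∀ y : X, y ∉ N → ¬ IsConj x y := by
    intro x hx y hy hxy
    obtain ⟨c, rfl⟩ := isConj_iff.1 hxy
    exact hy (hn.conj_mem x hx c)
  have has : a ∉ s := fun h => ha (hmem a h)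
  have hbs : b ∉ s := fun h => hb (hmem b h)
  have hne : a ≠ b := fun h => hab (h ▸ IsConj.refl a)
  have hcard : (insert a (insert b s)).card = L.card + 2 := by
    rw [Finset.card_insert_of_notMem, Finset.card_insert_of_notMem hbs, hs]
    rw [Finset.mem_insert, not_or]
    exact ⟨hne, has⟩
  rw [← hcard]
  refine card_le_classes _ ?_
  intro x hx y hy hxy
  rw [Finset.mem_insert, Finset.mem_insert] at hx hy
  rcases hx with rfl | rfl | hx
  · rcases hy with rfl | rfl | hy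
    · rfl
    · exact absurd hxy hab
    · exact absurd hxy.symm (hnc y (hmem y hy) _ ha)
  · rcases hy with rfl | rfl | hy
    · exact absurd hxy.symm hab
    · rfl
    · exact absurd hxy.symm (hnc y (hmem y hy) _ hb)
  · rcases hy with rfl | rfl | hy
    · exact absurd hxy (hnc x (hmem x hx) _ ha)
    · exact absurd hxy (hnc x (hmem x hx) _ hb)
    · exact h x hx y hy hxy

theorem main {T : Type u} [Group T] [Finite T] (e : T ≃* Cfsg.PSU 4 F4 2) : Fine.{u, u} T := by
  have : Fact (Nat.Prime 2) := ⟨Nat.prime_two⟩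
  have : Fact (Nat.Prime 3) := ⟨Nat.prime_three⟩
  have hchar : CharP F4 2 := charP_of_card_eq_prime_pow (f := 2) h4
  have hs' : IsSimpleGroup (Cfsg.PSU 4 F4 2) := Cfsg.Agent.S0283.result h4 4 (by norm_num) (by norm_num)
  have hs : IsSimpleGroup T := MulEquiv.isSimpleGroup e
  have hcard : Nat.card T = 25920 := by rw [Nat.card_congr e.toEquiv, card_psu42 h4]
  have haut : Nat.card (MulAut T) = 51840 := by
    rw [Nat.card_congr (autCongr e).toEquiv, card_aut_psu42 h4]
  have hna : ¬ IsMulCommutative T := not_comm_of_card (by rw [hcard]; norm_num)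
  have hc := center_eq_bot hna
  obtain ⟨ε⟩ := Cfsg.Agent.S0822.result (F := F4) (K := ZMod 3) (h4.trans (by norm_num)) (ZMod.card 3)
  have hL : ∀ n ∈ ({1, 2, 3, 4, 5, 6, 9, 12} : Finset ℕ), ∃ t : T, orderOf t = n := by
    intro n hn
    obtain ⟨g, hg⟩ := ord42 n hn
    exact ⟨e.symm g, by rw [MulEquiv.orderOf_eq, hg]⟩
  intro p m hp h11 hpT hm hR X hX z hz
  -- the dimension
  have hm4 : 4 ≤ m := by
    obtain ⟨K, _, _, d, hd2, hdm, hPR⟩ := FineScalar.exists_scalar hna hR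
    refine le_trans ?_ hdm
    have hcast : ∀ r : ℕ, r.Prime → r ∣ Nat.card T → (r : K) ≠ 0 := by
      intro r hr hrT
      rw [Ne, CharP.cast_eq_zero_iff K p, Nat.prime_dvd_prime_iff_eq hp hr]
      rintro rfl
      exact hpT hrT
    by_cases h3 : 3 ∣ d
    · by_contra hlt
      have hd : d = 3 := by omega
      have h5 := Cfsg.Agent.H175.BdSU.bd_psu (F := K) Nat.prime_two h4 (by norm_num)
        (hcast 2 Nat.prime_two (by rw [hcard]; norm_num)) e d (hPR 2 Nat.prime_two (by rw [hd]; norm_num))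
      norm_num at h5
      omega
    · have h5 := Cfsg.Agent.H175.BdSp.bd_psp (F := K) (K := ZMod 3) (q := 3) (m := 2) Nat.prime_three (ZMod.card 3)
        (by norm_num) (hcast 3 Nat.prime_three (by rw [hcard]; norm_num)) (e.trans ε) d (hPR 3 Nat.prime_three h3)
      norm_num at h5
      omega
  -- the order of `X`
  have hinn : Nat.card (MulAut.conj : T →* MulAut T).range = 25920 := by
    rw [← hcard]
    exact (Nat.card_congr (MonoidHom.ofInjective (_root_.Cfsg.Agent.H831.FineBase.conj_injective hc)).toEquiv).symm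
  have h5 : 25920 ∣ Nat.card X := by
    rw [← hinn]; exact Subgroup.card_dvd_of_le hX
  have h6 : Nat.card X ∣ 51840 := by
    rw [← haut]; exact Subgroup.card_subgroup_dvd_card X
  obtain ⟨j, hj⟩ := h5
  have hj2 : j ∣ 2 := by
    rw [hj, show (51840 : ℕ) = 25920 * 2 by norm_num] at h6
    exact Nat.dvd_of_mul_dvd_mul_left (by norm_num) h6
  rcases (Nat.dvd_prime Nat.prime_two).1 hj2 with rfl | rfl
  · refine conclude (k := 8) (A := 25920) hp h11 (le_trans (by decide) (orders_le hc _ hL hX)) (by omega) ?_ hz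
    exact numeric (B := 30) (d := 3) (by norm_num) (by omega) (by norm_num) (by decide) h11
  · refine conclude (k := 10) (A := 51840) hp h11 (le_trans (by decide) (add_two_le hc _ hL hX ?_ ?_)) (by omega) ?_ hz
    · rw [hj]; norm_num
    · rw [hj, hinn]
    · exact numeric (B := 38) (d := 3) (by norm_num) (by omega) (by norm_num) (by decide) h11

theorem fine_psu42 {T : Type u} [Group T] [Finite T] {F : Type} [Field F] [Fintype F] (hF : Fintype.card F = 2 ^ 2)
    (e : T ≃* Cfsg.PSU 4 F 2) : Cfsg.Agent.H698.Fine.{u, u} T :=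
  main (e.trans (FieldTransfer.psuCongr 4 2 (FiniteField.ringEquivOfCardEq (hF.trans h4.symm))))

theorem fine_psp43 {T : Type u} [Group T] [Finite T] {F : Type} [Field F] [Fintype F] (hF : Fintype.card F = 3)
    (e : T ≃* Cfsg.PSp 2 F) : Cfsg.Agent.H698.Fine.{u, u} T := by
  obtain ⟨ε⟩ := Cfsg.Agent.S0822.result (F := F4) (K := F) (h4.trans (by norm_num)) hF
  exact main (e.trans ε.symm)

end Cfsg.Agent.H831.FinePsp
end

-- part: H656/FineExc2
section
/-!
# `Fine` for `F₄(q)`, `E₆(q)`, `E₇(q)`, `E₈(q)` and `²E₆(q)`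

`fine_exc2` : the groups of Lie type `F₄`, `E₆`, `E₇`, `E₈`, `²E₆` satisfy the numerical condition `Fine`.
-/

set_option autoImplicit false

universe u w

namespace Cfsg.Agent.H656.FineExc2

open Cfsg.Lie Cfsg.Agent.H698

/-- the criterion -/
theorem fine_of_ls {T : Type u} [Group T] [Finite T] [IsSimpleGroup T] (hna : ¬ IsMulCommutative T) {r N E q : ℕ}
    (hr : r.Prime) (hrT : r ∣ Nat.card T) (hLS : Cfsg.Agent.H203.LS.LS.{u, w, w} r N T) (hq : 2 ≤ q)
    (hc : Nat.card (MulAut T) ≤ q ^ E) (hN : E * (q - 1) + 3 ≤ 3 * N) : Fine.{u, w} T := by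
  have hcen : Subgroup.center T = ⊥ := by
    rcases IsSimpleGroup.eq_bot_or_eq_top_of_normal (Subgroup.center T) inferInstance with h | h
    · exact h
    · exfalso
      apply hna
      refine ⟨⟨fun a b => ?_⟩⟩
      have h1 : b ∈ Subgroup.center T := by rw [h]; exact Subgroup.mem_top b
      exact Subgroup.mem_center_iff.1 h1 a
  have hT : 1 < Nat.card T := Finite.one_lt_card
  refine Fine.of_eleven hcen hT (d := N - 1) (fun p m hp _ hpT _ hR => ?_) ?_
  · have h := hR.le_of_LS hp hr hrT hpT hLS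
    omega
  · have h1 : q ≤ 2 ^ (q - 1) := by
      have := Nat.lt_two_pow_self (n := q - 1)
      omega
    calc Nat.card (MulAut T) ≤ q ^ E := hc
      _ ≤ (2 ^ (q - 1)) ^ E := Nat.pow_le_pow_left h1 E
      _ = 2 ^ ((q - 1) * E) := (pow_mul _ _ _).symm
      _ ≤ 2 ^ (3 * (N - 1)) := Nat.pow_le_pow_right (by norm_num) (by rw [mul_comm (q - 1)]; omega)
      _ = 8 ^ (N - 1) := by rw [pow_mul]; norm_num
      _ ≤ 11 ^ (N - 1) := Nat.pow_le_pow_left (by norm_num) _

/-- the order of the automorphism group -/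
theorem card_aut {T : Type u} [Group T] [Finite T] [IsSimpleGroup T] (hna : ¬ IsMulCommutative T) {o g B : ℕ}
    (ho : Nat.card (Cfsg.Out T) ≤ o * g) (hg : g * Nat.card T ≤ B) : Nat.card (MulAut T) ≤ o * B := by
  rw [← Cfsg.Agent.H934.OutB.card_out_mul T hna]
  calc Nat.card (Cfsg.Out T) * Nat.card T ≤ o * g * Nat.card T := Nat.mul_le_mul_right _ ho
    _ = o * (g * Nat.card T) := mul_assoc _ _ _
    _ ≤ o * B := Nat.mul_le_mul_left _ hg

theorem dvd_of {r q g c : ℕ} (hr : r.Prime) (hrq : r ∣ q) (hg : ¬ r ∣ g) {B : ℕ} (h : g * c = B) (hB : q ∣ B) :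
    r ∣ c := by
  have h1 : r ∣ g * c := by rw [h]; exact hrq.trans hB
  exact (hr.dvd_mul.1 h1).resolve_left hg

theorem not_dvd_gcd {r q a : ℕ} (hr : r.Prime) (hrq : r ∣ q) (hq : 1 ≤ q) : ¬ r ∣ Nat.gcd a (q - 1) := by
  intro h
  have h1 := h.trans (Nat.gcd_dvd_right _ _)
  have h2 := (Nat.dvd_sub hrq h1)
  rw [show q - (q - 1) = 1 by omega] at h2
  exact hr.one_lt.ne' (Nat.dvd_one.1 h2)

theorem not_dvd_gcd' {r q a : ℕ} (hr : r.Prime) (hrq : r ∣ q) : ¬ r ∣ Nat.gcd a (q + 1) := by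
  intro h
  have h1 := h.trans (Nat.gcd_dvd_right _ _)
  have h2 := (Nat.dvd_sub h1 hrq)
  rw [show q + 1 - q = 1 by omega] at h2
  exact hr.one_lt.ne' (Nat.dvd_one.1 h2)

/-- `LS` for `F₄(q)`, `q > 2` -/
theorem ls_f4 {r : ℕ} (F : Type) [Field F] [Fintype F] [CharP F r] (hF : 2 < Nat.card F) :
    Cfsg.Agent.H203.LS.LS.{0, w, w} r ((Nat.card F - 1) * Nat.card F ^ 4) (chevF4.group F) := by
  by_cases h2 : (2 : F) = 0
  · exact Cfsg.Agent.H203.LS.F4even.ls_even F h2 hF
  · exact Cfsg.Agent.H203.LS.F4odd.ls_odd F h2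

theorem fine_f4_two (F : Type) [Field F] [Fintype F] (hF : Nat.card F = 2) : Fine.{0, w} (chevF4.group F) := by
  obtain ⟨hs, hna⟩ := Cfsg.Agent.S1054.result (F := F) chevF4 (by simp)
  have hF' : Fintype.card F = 2 := by rw [← Nat.card_eq_fintype_card]; exact hF
  have : Fact (Nat.Prime 2) := ⟨Nat.prime_two⟩
  have : CharP F 2 := H489.charP_of Nat.prime_two (f := 1) le_rfl (by rw [hF', pow_one])
  have hcT : Nat.card ↥(chevF4.group F) = 3311126603366400 := by
    rw [S1062.result (F := F) hF']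
    norm_num
  have hfin : Finite ↥(chevF4.group F) := Nat.finite_of_card_ne_zero (by omega)
  have ho := S2122.result 2 1 (F := F) (by rw [hF', pow_one])
  have hA : Nat.card (MulAut ↥(chevF4.group F)) = 6622253206732800 := by
    rw [← Cfsg.Agent.H934.OutB.card_out_mul ↥(chevF4.group F) hna, ho, hcT]
    norm_num
  have hcen : Subgroup.center ↥(chevF4.group F) = ⊥ := by
    rcases IsSimpleGroup.eq_bot_or_eq_top_of_normal (Subgroup.center ↥(chevF4.group F)) inferInstance with h | h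
    · exact h
    · exfalso
      apply hna
      refine ⟨⟨fun a b => ?_⟩⟩
      have h1 : b ∈ Subgroup.center ↥(chevF4.group F) := by rw [h]; exact Subgroup.mem_top b
      exact Subgroup.mem_center_iff.1 h1 a
  refine Fine.of_lt7 hcen (by rw [hcT]; norm_num) fun p m hp h11 hpT _ hR => ?_
  have hm := hR.le_of_LS hp Nat.prime_two (by rw [hcT]; norm_num) hpT (Cfsg.Agent.H656.LSF4two.ls hF)
  rw [hA]
  rcases Nat.lt_or_ge 13 p with h13 | h13
  · have h1 : 14 ^ 14 ≤ p ^ 14 := Nat.pow_le_pow_left h13 14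
    have h2 : p ^ 15 ≤ p ^ m := Nat.pow_le_pow_right (by omega) hm
    have h3 : (p - 13) * 6622253206732800 ≤ (p - 13) * p ^ 14 := Nat.mul_le_mul_left _ (le_trans (by norm_num) h1)
    have h4 : (p - 13) * p ^ 14 + 13 * p ^ 14 = p ^ 15 := by
      rw [← add_mul, pow_succ p 14, mul_comm (p ^ 14)]
      congr 1
      omega
    have h5 : 0 < p ^ 14 := Nat.pow_pos (by omega)
    omega
  · rw [show p - 13 = 0 by omega, zero_mul, zero_add]
    exact Nat.one_lt_pow (by omega) (by omega)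

/-- **`F₄(q)`** -/
theorem fine_f4 {T : Type u} [Group T] (h : IsoF4 T) : Fine.{u, w} T := by
  obtain ⟨F, _, _, ⟨e⟩⟩ := h
  refine Fine.congr ?_ e.symm
  obtain ⟨p, f, hp, hf, hF, h2f, hq⟩ := H489.exists_pf F
  rcases Nat.lt_or_ge 2 (Fintype.card F) with h3 | h3
  swap
  · exact fine_f4_two F (by rw [Nat.card_eq_fintype_card]; omega)
  have : Fact p.Prime := ⟨hp⟩
  have := H489.charP_of hp hf hF
  obtain ⟨hs, hna⟩ := Cfsg.Agent.S1054.result (F := F) chevF4 (by simp)
  have hcT := S1062.result (F := F) rfl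
  have ho := S2122.result p f hF
  have hpq : p ∣ Fintype.card F := by rw [hF]; exact dvd_pow_self p (by omega)
  have hls := ls_f4.{w} (r := p) F (by rw [Nat.card_eq_fintype_card]; exact h3)
  rw [Nat.card_eq_fintype_card] at hls
  have hA : 4 ≤ Fintype.card F ∨ Fintype.card F = 3 := by omega
  set q := Fintype.card F
  have hdv : p ∣ Nat.card ↥(chevF4.group F) := by
    rw [hcT]
    exact hpq.trans (by (apply Dvd.dvd.mul_right; apply Dvd.dvd.mul_right; apply Dvd.dvd.mul_right; apply Dvd.dvd.mul_right; (exact dvd_pow_self _ (by norm_num))))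
  have hle : 1 * Nat.card ↥(chevF4.group F) ≤ q ^ 52 := by
    rw [hcT]
    calc 1 * (q ^ 24 * (q ^ 2 - 1) * (q ^ 6 - 1) * (q ^ 8 - 1) * (q ^ 12 - 1))
        ≤ 1 * (q ^ 24 * q ^ 2 * q ^ 6 * q ^ 8 * q ^ 12) := by gcongr <;> exact Nat.sub_le _ _
      _ = q ^ 52 := by ring
  have hfin : Finite ↥(chevF4.group F) := inferInstance
  refine fine_of_ls hna hp hdv hls hq (E := 53) ?_ ?_
  · refine (card_aut hna (o := q) (g := 1) ?_ hle).trans (by ring_nf; rfl)
    rw [ho, mul_one]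
    exact (Nat.mul_le_mul_right _ (Nat.gcd_le_left _ (by norm_num))).trans h2f
  · have h4 : 3 ^ 4 ≤ q ^ 4 := Nat.pow_le_pow_left h3 4
    have h5 : (q - 1) * 3 ^ 4 ≤ (q - 1) * q ^ 4 := Nat.mul_le_mul_left _ h4
    omega

/-- the numerical condition -/
theorem num {q k E : ℕ} (hq : 2 ≤ q) (hE : E + 3 ≤ 3 * 2 ^ k) : E * (q - 1) + 3 ≤ 3 * ((q - 1) * q ^ k) := by
  have h4 : 2 ^ k ≤ q ^ k := Nat.pow_le_pow_left hq k
  have h5 : (q - 1) * (E + 3) ≤ (q - 1) * (3 * q ^ k) := Nat.mul_le_mul_left _ (hE.trans (by omega))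
  have h6 : (q - 1) * (E + 3) = E * (q - 1) + 3 * (q - 1) := by ring
  have h7 : (q - 1) * (3 * q ^ k) = 3 * ((q - 1) * q ^ k) := by ring
  omega

/-- **`E₆(q)`** -/
theorem fine_e6 {T : Type u} [Group T] (h : IsoChevE6 T) : Fine.{u, w} T := by
  obtain ⟨F, _, _, ⟨e⟩⟩ := h
  refine Fine.congr ?_ e.symm
  obtain ⟨p, f, hp, hf, hF, h2f, hq⟩ := H489.exists_pf F
  have : Fact p.Prime := ⟨hp⟩
  have := H489.charP_of hp hf hF
  obtain ⟨hs, hna⟩ := Cfsg.Agent.S1054.result (F := F) chevE6 (by simp)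
  have hcT := S1063.result (F := F) rfl
  have ho := S2123.result p f hF
  rw [← hF] at ho
  have hpq : p ∣ Fintype.card F := by rw [hF]; exact dvd_pow_self p (by omega)
  have hls := Cfsg.Agent.H203.LS.E6.ls.{0, w, w} (r := p) F
  rw [Nat.card_eq_fintype_card] at hls
  set q := Fintype.card F
  have hdv : p ∣ Nat.card ↥(chevE6.group F) := by
    refine dvd_of hp hpq (not_dvd_gcd hp hpq (by omega)) hcT ?_
    (apply Dvd.dvd.mul_right; apply Dvd.dvd.mul_right; apply Dvd.dvd.mul_right; apply Dvd.dvd.mul_right; apply Dvd.dvd.mul_right; apply Dvd.dvd.mul_right; (exact dvd_pow_self _ (by norm_num)))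
  have hle : Nat.gcd 3 (q - 1) * Nat.card ↥(chevE6.group F) ≤ q ^ 78 := by
    rw [hcT]
    calc q ^ 36 * (q ^ 2 - 1) * (q ^ 5 - 1) * (q ^ 6 - 1) * (q ^ 8 - 1) * (q ^ 9 - 1) * (q ^ 12 - 1)
        ≤ q ^ 36 * q ^ 2 * q ^ 5 * q ^ 6 * q ^ 8 * q ^ 9 * q ^ 12 := by gcongr <;> exact Nat.sub_le _ _
      _ = q ^ 78 := by ring
  have hfin : Finite ↥(chevE6.group F) := inferInstance
  refine fine_of_ls hna hp hdv hls hq (E := 79) ?_ (num hq (by norm_num))
  refine (card_aut hna (o := q) ?_ hle).trans (by ring_nf; rfl)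
  rw [ho]
  calc 2 * Nat.gcd 3 (q - 1) * f = 2 * f * Nat.gcd 3 (q - 1) := by ring
    _ ≤ q * Nat.gcd 3 (q - 1) := Nat.mul_le_mul_right _ h2f

/-- **`E₇(q)`** -/
theorem fine_e7 {T : Type u} [Group T] (h : IsoE7 T) : Fine.{u, w} T := by
  obtain ⟨F, _, _, ⟨e⟩⟩ := h
  refine Fine.congr ?_ e.symm
  obtain ⟨p, f, hp, hf, hF, h2f, hq⟩ := H489.exists_pf F
  have : Fact p.Prime := ⟨hp⟩
  have := H489.charP_of hp hf hF
  obtain ⟨hs, hna⟩ := Cfsg.Agent.S1054.result (F := F) chevE7 (by simp)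
  have hcT := S1064.result (F := F) rfl
  have ho := S2124.result p f hF
  rw [← hF] at ho
  have hpq : p ∣ Fintype.card F := by rw [hF]; exact dvd_pow_self p (by omega)
  have hls := Cfsg.Agent.H203.LS.E7.ls.{0, w, w} (r := p) F
  rw [Nat.card_eq_fintype_card] at hls
  set q := Fintype.card F
  have hdv : p ∣ Nat.card ↥(chevE7.group F) := by
    refine dvd_of hp hpq (not_dvd_gcd hp hpq (by omega)) hcT ?_
    (apply Dvd.dvd.mul_right; apply Dvd.dvd.mul_right; apply Dvd.dvd.mul_right; apply Dvd.dvd.mul_right; apply Dvd.dvd.mul_right; apply Dvd.dvd.mul_right; apply Dvd.dvd.mul_right; (exact dvd_pow_self _ (by norm_num)))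
  have hle : Nat.gcd 2 (q - 1) * Nat.card ↥(chevE7.group F) ≤ q ^ 133 := by
    rw [hcT]
    calc q ^ 63 * (q ^ 2 - 1) * (q ^ 6 - 1) * (q ^ 8 - 1) * (q ^ 10 - 1) * (q ^ 12 - 1) * (q ^ 14 - 1) * (q ^ 18 - 1)
        ≤ q ^ 63 * q ^ 2 * q ^ 6 * q ^ 8 * q ^ 10 * q ^ 12 * q ^ 14 * q ^ 18 := by
          gcongr <;> exact Nat.sub_le _ _
      _ = q ^ 133 := by ring
  have hfin : Finite ↥(chevE7.group F) := inferInstance
  refine fine_of_ls hna hp hdv hls hq (E := 134) ?_ (num hq (by norm_num))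
  refine (card_aut hna (o := q) ?_ hle).trans (by ring_nf; rfl)
  rw [ho]
  calc Nat.gcd 2 (q - 1) * f = f * Nat.gcd 2 (q - 1) := by ring
    _ ≤ q * Nat.gcd 2 (q - 1) := Nat.mul_le_mul_right _ (by omega)

/-- **`E₈(q)`** -/
theorem fine_e8 {T : Type u} [Group T] (h : IsoE8 T) : Fine.{u, w} T := by
  obtain ⟨F, _, _, ⟨e⟩⟩ := h
  refine Fine.congr ?_ e.symm
  obtain ⟨p, f, hp, hf, hF, h2f, hq⟩ := H489.exists_pf F
  have : Fact p.Prime := ⟨hp⟩
  have := H489.charP_of hp hf hF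
  obtain ⟨hs, hna⟩ := Cfsg.Agent.S1054.result (F := F) chevE8 (by simp)
  have hcT := S1065.result (F := F) rfl
  have ho := S2125.result p f hF
  have hpq : p ∣ Fintype.card F := by rw [hF]; exact dvd_pow_self p (by omega)
  have hls := Cfsg.Agent.H203.LS.E8.ls.{0, w, w} (r := p) F
  rw [Nat.card_eq_fintype_card] at hls
  set q := Fintype.card F
  have hdv : p ∣ Nat.card ↥(chevE8.group F) := by
    rw [hcT]
    exact hpq.trans (by (apply Dvd.dvd.mul_right; apply Dvd.dvd.mul_right; apply Dvd.dvd.mul_right; apply Dvd.dvd.mul_right; apply Dvd.dvd.mul_right; apply Dvd.dvd.mul_right; apply Dvd.dvd.mul_right; apply Dvd.dvd.mul_right; (exact dvd_pow_self _ (by norm_num))))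
  have hle : 1 * Nat.card ↥(chevE8.group F) ≤ q ^ 248 := by
    rw [hcT]
    calc 1 * (q ^ 120 * (q ^ 2 - 1) * (q ^ 8 - 1) * (q ^ 12 - 1) * (q ^ 14 - 1) * (q ^ 18 - 1) * (q ^ 20 - 1) *
          (q ^ 24 - 1) * (q ^ 30 - 1))
        ≤ 1 * (q ^ 120 * q ^ 2 * q ^ 8 * q ^ 12 * q ^ 14 * q ^ 18 * q ^ 20 * q ^ 24 * q ^ 30) := by
          gcongr <;> exact Nat.sub_le _ _
      _ = q ^ 248 := by ring
  have hfin : Finite ↥(chevE8.group F) := inferInstance
  refine fine_of_ls hna hp hdv hls hq (E := 249) ?_ (num hq (by norm_num))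
  refine (card_aut hna (o := q) (g := 1) ?_ hle).trans (by ring_nf; rfl)
  rw [ho, mul_one]
  omega

/-- **`²E₆(q)`** -/
theorem fine_2e6 {T : Type u} [Group T] (h : Iso2E6 T) : Fine.{u, w} T := by
  obtain ⟨K, _, _, q, hqp, hK, ⟨e⟩⟩ := h
  refine Fine.congr ?_ e.symm
  obtain ⟨p, f, hp, hc, hf, hqf, hKf, h2f, hq⟩ := H489.exists_pf_of hqp hK (by norm_num)
  have : Fact p.Prime := ⟨hp⟩
  obtain ⟨hs, hna⟩ := Cfsg.Agent.S1070.result hqp hK
  have hcT := S1066.result hqp hK
  have ho := S2130.result p f hKf hf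
  rw [← hqf] at ho
  have hpq : p ∣ q := by rw [hqf]; exact dvd_pow_self p (by omega)
  have hls := Cfsg.Agent.H656.LSTwE6.ls.{0, w, w} (r := p) hqp hK
  have hdv : p ∣ Nat.card ↥(twistedE6 K q) := by
    refine dvd_of hp hpq (not_dvd_gcd' hp hpq) hcT ?_
    (apply Dvd.dvd.mul_right; apply Dvd.dvd.mul_right; apply Dvd.dvd.mul_right; apply Dvd.dvd.mul_right; apply Dvd.dvd.mul_right; apply Dvd.dvd.mul_right; (exact dvd_pow_self _ (by norm_num)))
  have h1 : (q ^ 2 - 1) * (q ^ 5 + 1) ≤ q ^ 7 := by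
    have e1 : (q ^ 2 - 1) * (q ^ 5 + 1) + (q ^ 5 + 1) = q ^ 2 * (q ^ 5 + 1) := by
      rw [← Nat.succ_mul]
      congr 1
      have : 0 < q ^ 2 := Nat.pow_pos (by omega)
      omega
    have e2 : q ^ 2 * (q ^ 5 + 1) = q ^ 7 + q ^ 2 := by ring
    have e3 : q ^ 2 ≤ q ^ 5 := Nat.pow_le_pow_right (by omega) (by norm_num)
    omega
  have h2 : (q ^ 6 - 1) * (q ^ 9 + 1) ≤ q ^ 15 := by
    have e1 : (q ^ 6 - 1) * (q ^ 9 + 1) + (q ^ 9 + 1) = q ^ 6 * (q ^ 9 + 1) := by
      rw [← Nat.succ_mul]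
      congr 1
      have : 0 < q ^ 6 := Nat.pow_pos (by omega)
      omega
    have e2 : q ^ 6 * (q ^ 9 + 1) = q ^ 15 + q ^ 6 := by ring
    have e3 : q ^ 6 ≤ q ^ 9 := Nat.pow_le_pow_right (by omega) (by norm_num)
    omega
  have hle : Nat.gcd 3 (q + 1) * Nat.card ↥(twistedE6 K q) ≤ q ^ 78 := by
    rw [hcT]
    calc q ^ 36 * (q ^ 2 - 1) * (q ^ 5 + 1) * (q ^ 6 - 1) * (q ^ 8 - 1) * (q ^ 9 + 1) * (q ^ 12 - 1)
        = q ^ 36 * ((q ^ 2 - 1) * (q ^ 5 + 1)) * ((q ^ 6 - 1) * (q ^ 9 + 1)) * (q ^ 8 - 1) * (q ^ 12 - 1) := by ring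
      _ ≤ q ^ 36 * q ^ 7 * q ^ 15 * q ^ 8 * q ^ 12 := by
          refine Nat.mul_le_mul (Nat.mul_le_mul (Nat.mul_le_mul (Nat.mul_le_mul le_rfl h1) h2) ?_) ?_ <;>
            exact Nat.sub_le _ _
      _ = q ^ 78 := by ring
  have hfin : Finite ↥(twistedE6 K q) := inferInstance
  refine fine_of_ls hna hp hdv hls hq (E := 79) ?_ ?_
  · refine (card_aut hna (o := q) ?_ hle).trans (by ring_nf; rfl)
    rw [ho]
    calc 2 * Nat.gcd 3 (q + 1) * f = 2 * f * Nat.gcd 3 (q + 1) := by ring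
      _ ≤ q * Nat.gcd 3 (q + 1) := Nat.mul_le_mul_right _ h2f
  · have h5 : 2 ^ 5 ≤ q ^ 5 := Nat.pow_le_pow_left hq 5
    have h6 : q * 2 ^ 5 ≤ q * q ^ 5 := Nat.mul_le_mul_left _ h5
    have h7 : q * q ^ 5 = q ^ 6 := by ring
    omega

/-- **Task 769** -/
theorem fine_exc2 {T : Type u} [Group T] [Finite T] (h : Cfsg.Lie.IsoF4 T ∨ Cfsg.Lie.IsoChevE6 T ∨ Cfsg.Lie.IsoE7 T ∨
    Cfsg.Lie.IsoE8 T ∨ Cfsg.Lie.Iso2E6 T) : Cfsg.Agent.H698.Fine.{u, u} T := by
  rcases h with h | h | h | h | h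
  · exact fine_f4 h
  · exact fine_e6 h
  · exact fine_e7 h
  · exact fine_e8 h
  · exact fine_2e6 h

end Cfsg.Agent.H656.FineExc2
end

-- part: H698/FineAll
section
/-!
# The condition `Fine` for all known simple groups (assembly)
-/

set_option autoImplicit false

namespace Cfsg.Agent.H698.FineAll

open Cfsg

universe u

/-- The rows which are stated separately. -/
structure Rest : Prop where
  exc2 : ∀ {T : Type u} [Group T] [Finite T], Lie.IsoF4 T ∨ Lie.IsoChevE6 T ∨ Lie.IsoE7 T ∨ Lie.IsoE8 T ∨ Lie.Iso2E6 T →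
    Fine.{u, u} T
  spor1 : ∀ {T : Type u} [Group T] [Finite T], Spor.IsoM11 T ∨ Spor.IsoM12 T ∨ Spor.IsoM22 T ∨ Spor.IsoM23 T ∨
    Spor.IsoM24 T ∨ Spor.IsoJ1 T ∨ Spor.IsoJ3 T ∨ Spor.IsoJ4 T ∨ Spor.IsoCo2 T ∨ Spor.IsoCo3 T ∨ Spor.IsoHe T ∨
    Spor.IsoRu T ∨ Spor.IsoON T ∨ Spor.IsoLy T ∨ Spor.IsoTh T ∨ Spor.IsoB T ∨ Spor.IsoM T → Fine.{u, u} T
  spor2 : ∀ {T : Type u} [Group T] [Finite T], Spor.IsoJ2 T ∨ Spor.IsoHS T ∨ Spor.IsoMcL T ∨ Spor.IsoCo1 T ∨
    Spor.IsoSuz T ∨ Spor.IsoFi22 T ∨ Spor.IsoFi23 T ∨ Spor.IsoFi24' T ∨ Spor.IsoHN T → Fine.{u, u} T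

theorem fine_of_known (R : Rest.{u}) {T : Type u} [Group T] [Finite T] (hna : ¬ IsMulCommutative T)
    (h : IsKnownSimple' T) : Fine.{u, u} T := by
  rcases h with h | h | h | h | h | h | h | h | h | h
  · exfalso
    apply hna
    have : Fact (Nat.card T).Prime := ⟨h⟩
    have hc : IsCyclic T := isCyclic_of_prime_card rfl
    exact ⟨⟨fun a b => (IsCyclic.commGroup (α := T)).mul_comm a b⟩⟩
  · exact H656.FineAlt.fine_alt h
  · obtain ⟨F, _, _, n, hn, hn2, ⟨e⟩⟩ := h
    rcases Nat.lt_or_ge n 3 with h3 | h3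
    · have h2 : n = 2 := by omega
      subst h2
      by_cases h9 : Fintype.card F = 9
      · obtain ⟨g⟩ := S0254.result h9
        exact H656.FineAlt.fine_alt ⟨6, by norm_num, ⟨e.trans g⟩⟩
      · exact H680.fine_psl2 (hn2 rfl) h9 e
    · by_cases h34 : n = 3 ∧ Fintype.card F = 4
      · obtain ⟨rfl, hF⟩ := h34
        exact H831.FineLin.fine_l34 hF e
      · by_cases h42 : n = 4 ∧ Fintype.card F = 2
        · obtain ⟨rfl, hF⟩ := h42
          obtain ⟨g⟩ := S0256.result hF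
          exact H656.FineAlt.fine_alt ⟨8, by norm_num, ⟨e.trans g⟩⟩
        · exact H454.FinePsl.fine_psl h3 h34 h42 e
  · obtain ⟨F, _, _, m, hm, hm2, ⟨e⟩⟩ := h
    by_cases h23 : m = 2 ∧ Fintype.card F = 3
    · obtain ⟨rfl, hF⟩ := h23
      exact H831.FinePsp.fine_psp43 hF e
    · refine H454.FinePsp.fine_psp hm (fun h2 => ?_) e
      have := hm2 h2
      have h4 : Fintype.card F ≠ 3 := fun h => h23 ⟨h2, h⟩
      omega
  · obtain ⟨F, _, _, n, q, hF, hn, h32, ⟨e⟩⟩ := h
    by_cases h42 : n = 4 ∧ q = 2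
    · obtain ⟨rfl, rfl⟩ := h42
      exact H831.FinePsp.fine_psu42 hF e
    · by_cases h43 : n = 4 ∧ q = 3
      · obtain ⟨rfl, rfl⟩ := h43
        exact H831.FineUSix.fine_u43 hF e
      · by_cases h62 : n = 6 ∧ q = 2
        · obtain ⟨rfl, rfl⟩ := h62
          exact H831.FineUSix.fine_u62 hF e
        · exact H454.FinePsu.fine_psu hF hn h32 h42 h43 h62 e
  · exact H315.FineOrth.fine_omega (Or.inl h)
  · exact H315.FineOrth.fine_omega (Or.inr (Or.inl h))
  · exact H315.FineOrth.fine_omega (Or.inr (Or.inr h))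
  · rcases h with h | h | h | h | h | h | h | h | h | h | h
    · exact H762.FineExc.fine_exc1 (Or.inl h)
    · exact R.exc2 (Or.inl h)
    · exact R.exc2 (Or.inr (Or.inl h))
    · exact R.exc2 (Or.inr (Or.inr (Or.inl h)))
    · exact R.exc2 (Or.inr (Or.inr (Or.inr (Or.inl h))))
    · exact R.exc2 (Or.inr (Or.inr (Or.inr (Or.inr h))))
    · exact H762.FineExc.fine_exc1 (Or.inr (Or.inl h))
    · exact H762.FineExc.fine_exc1 (Or.inr (Or.inr (Or.inl h)))
    · exact H762.FineExc.fine_exc1 (Or.inr (Or.inr (Or.inr (Or.inl h))))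
    · exact H762.FineExc.fine_exc1 (Or.inr (Or.inr (Or.inr (Or.inr (Or.inl h)))))
    · exact H762.FineExc.fine_exc1 (Or.inr (Or.inr (Or.inr (Or.inr (Or.inr h)))))
  · have h1 := R.spor1 (T := T)
    have h2 := R.spor2 (T := T)
    rcases h with h | h | h | h | h | h | h | h | h | h | h | h | h | h | h | h | h | h | h | h | h | h | h | h | h | h
    · exact h1 (by (clear * - h; tauto))
    · exact h1 (by (clear * - h; simp only [h, true_or, or_true]))
    · exact h1 (by (clear * - h; simp only [h, true_or, or_true]))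
    · exact h1 (by (clear * - h; simp only [h, true_or, or_true]))
    · exact h1 (by (clear * - h; simp only [h, true_or, or_true]))
    · exact h1 (by (clear * - h; (solve | repeat (first | with_reducible assumption | exact Or.inl (by with_reducible assumption) | refine Or.inr ?_) | tauto)))
    · exact h2 (by (clear * - h; tauto))
    · exact h1 (by (clear * - h; (solve | repeat (first | with_reducible assumption | exact Or.inl (by with_reducible assumption) | refine Or.inr ?_) | tauto)))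
    · exact h1 (by (clear * - h; (solve | repeat (first | with_reducible assumption | exact Or.inl (by with_reducible assumption) | refine Or.inr ?_) | tauto)))
    · exact h2 (by (clear * - h; (solve | repeat (first | with_reducible assumption | exact Or.inl (by with_reducible assumption) | refine Or.inr ?_) | tauto)))
    · exact h1 (by (clear * - h; (solve | repeat (first | with_reducible assumption | exact Or.inl (by with_reducible assumption) | refine Or.inr ?_) | tauto)))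
    · exact h1 (by (clear * - h; (solve | repeat (first | with_reducible assumption | exact Or.inl (by with_reducible assumption) | refine Or.inr ?_) | tauto)))
    · exact h2 (by (clear * - h; simp only [h, true_or, or_true]))
    · exact h2 (by (clear * - h; simp only [h, true_or, or_true]))
    · exact h2 (by (clear * - h; (solve | repeat (first | with_reducible assumption | exact Or.inl (by with_reducible assumption) | refine Or.inr ?_) | tauto)))
    · exact h1 (by (clear * - h; (solve | repeat (first | with_reducible assumption | exact Or.inl (by with_reducible assumption) | refine Or.inr ?_) | tauto)))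
    · exact h1 (by (clear * - h; (solve | repeat (first | with_reducible assumption | exact Or.inl (by with_reducible assumption) | refine Or.inr ?_) | tauto)))
    · exact h1 (by (clear * - h; (solve | repeat (first | with_reducible assumption | exact Or.inl (by with_reducible assumption) | refine Or.inr ?_) | tauto)))
    · exact h1 (by (clear * - h; (solve | repeat (first | with_reducible assumption | exact Or.inl (by with_reducible assumption) | refine Or.inr ?_) | tauto)))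
    · exact h2 (by (clear * - h; (solve | repeat (first | with_reducible assumption | exact Or.inl (by with_reducible assumption) | refine Or.inr ?_) | tauto)))
    · exact h2 (by (clear * - h; (solve | repeat (first | with_reducible assumption | exact Or.inl (by with_reducible assumption) | refine Or.inr ?_) | tauto)))
    · exact h2 (by (clear * - h; (solve | repeat (first | with_reducible assumption | exact Or.inl (by with_reducible assumption) | refine Or.inr ?_) | tauto)))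
    · exact h2 (by (clear * - h; (solve | repeat (first | with_reducible assumption | exact Or.inl (by with_reducible assumption) | refine Or.inr ?_) | tauto)))
    · exact h1 (by (clear * - h; (solve | repeat (first | with_reducible assumption | exact Or.inl (by with_reducible assumption) | refine Or.inr ?_) | tauto)))
    · exact h1 (by (clear * - h; (solve | repeat (first | with_reducible assumption | exact Or.inl (by with_reducible assumption) | refine Or.inr ?_) | tauto)))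
    · exact h1 (by (clear * - h; (solve | repeat (first | with_reducible assumption | exact Or.inl (by with_reducible assumption) | refine Or.inr ?_) | tauto)))

theorem rest : Rest.{u} where
  exc2 h := H656.FineExc2.fine_exc2 h
  spor1 h := H123.FineSpor.fine_spor1 h
  spor2 h := H128.FineSpor.fine_spor2 h

end Cfsg.Agent.H698.FineAll
end

private theorem dce_3ec562efc2d0 : _root_.True := by
  try have : _root_.True := by simp only [_root_.Matrix.ProjGenLinGroup.congr_simp]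
  try have : _root_.True := by simp only [_root_.Cfsg.Agent.H831.FineLin.ss.eq_1]
  exact _root_.True.intro
end
end
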